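import Mathlib.LinearAlgebra.Trace
import Mathlib.Algebra.CharP.Lemmas
import Mathlib.Algebra.Polynomial.AlgebraMap
import Mathlib.Algebra.Polynomial.Roots
import Mathlib.FieldTheory.Finite.Basic
import Mathlib.LinearAlgebra.FiniteDimensional.Lemmas
import Cfsg.Agent.Lib.Perm.PrimeDegree

/-!
# An element of order `p` normalized by one of order `e`, acting on a space in characteristic `p`

`U ^ p = 1`, `Y ^ e = 1`, `Y U = U ^ r Y`: the operators `J = Σ U ^ a`, `Z = Σ a U ^ a`,
`D = Σ a⁻¹ U ^ a` shift the eigenspaces of `Y` by `1`, `r⁻¹`, `r`.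
-/

set_option autoImplicit false

namespace CfsgLib.Perm.UniqueDegreeP.Weight

open CfsgLib.Perm.PrimeDegree (ι)
open Polynomial (aeval X C)
open scoped _root_.Classical

variable {p : ℕ} [Fact p.Prime] {k : Type*} [Field k] [CharP k p]
variable {V : Type*} [AddCommGroup V] [Module k V]

/-- `U ^ a` for `a` modulo `p`. -/
def up (U : Module.End k V) (a : ZMod p) : Module.End k V := U ^ a.val

/-- `Σ U ^ a`. -/
noncomputable def opJ (p : ℕ) [Fact p.Prime] (U : Module.End k V) : Module.End k V :=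
  ∑ a : ZMod p, up U a

/-- `Σ a U ^ a`. -/
noncomputable def opZ (p : ℕ) [Fact p.Prime] [CharP k p] (U : Module.End k V) : Module.End k V :=
  ∑ a : ZMod p, ι k a • up U a

/-- `Σ a⁻¹ U ^ a`. -/
noncomputable def opD (p : ℕ) [Fact p.Prime] [CharP k p] (U : Module.End k V) : Module.End k V :=
  ∑ a : ZMod p, ι k a⁻¹ • up U a

theorem up_zero (U : Module.End k V) : up U (0 : ZMod p) = 1 := by simp [up]

theorem up_one (U : Module.End k V) : up U (1 : ZMod p) = U := by
  rw [up, ZMod.val_one, pow_one]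

theorem up_add {U : Module.End k V} (hU : U ^ p = 1) (a b : ZMod p) :
    up U (a + b) = up U a * up U b := by
  rw [up, up, up, ← pow_add, ZMod.val_add]
  conv_rhs => rw [← Nat.mod_add_div (a.val + b.val) p, pow_add, pow_mul, hU, one_pow, mul_one]

theorem sum_inv_eq_zero (h3 : 3 ≤ p) : ∑ b : ZMod p, b⁻¹ = 0 := by
  rw [Fintype.sum_equiv (Equiv.inv (ZMod p)) (fun b => b⁻¹) id fun b => rfl]
  have h := FiniteField.sum_pow_lt_card_sub_one (ZMod p) 1 (by rw [ZMod.card]; omega)
  simpa using h

theorem sum_mul_inv : ∑ b : ZMod p, b * b⁻¹ = -1 := by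
  rw [Finset.sum_congr rfl (g := fun b => if b = 0 then 0 else 1) fun b _ => by
    split_ifs with hb
    · simp [hb]
    · exact mul_inv_cancel₀ hb]
  rw [Finset.sum_ite, Finset.sum_const_zero, zero_add, Finset.sum_const, nsmul_eq_mul, mul_one,
    Finset.filter_not, Finset.filter_eq', if_pos (Finset.mem_univ _),
    Finset.card_univ_sdiff, Finset.card_singleton, ZMod.card,
    Nat.cast_sub (Fact.out : p.Prime).one_le, ZMod.natCast_self, Nat.cast_one, zero_sub]

theorem opJ_mul_up {U : Module.End k V} (hU : U ^ p = 1) (b : ZMod p) :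
    opJ p U * up U b = opJ p U := by
  rw [opJ, Finset.sum_mul]
  exact Fintype.sum_equiv (Equiv.addRight b) _ _ fun a => (up_add hU a b).symm

theorem opJ_mul_opD {U : Module.End k V} (hU : U ^ p = 1) (h3 : 3 ≤ p) :
    opJ p U * opD p U = 0 := by
  rw [opD, Finset.mul_sum]
  simp only [mul_smul_comm, opJ_mul_up hU]
  rw [← Finset.sum_smul, ← map_sum, sum_inv_eq_zero h3, map_zero, zero_smul]

theorem opZ_mul_opD {U : Module.End k V} (hU : U ^ p = 1) (h3 : 3 ≤ p) :
    opZ p U * opD p U = opJ p U := by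
  rw [opZ, opD, Finset.sum_mul_sum, Finset.sum_comm]
  calc ∑ b : ZMod p, ∑ a : ZMod p, (ι k a • up U a) * (ι k b⁻¹ • up U b)
      = ∑ b : ZMod p, ∑ c : ZMod p, ι k ((c - b) * b⁻¹) • up U c := by
        refine Finset.sum_congr rfl fun b _ => Fintype.sum_equiv (Equiv.addRight b) _ _ fun a => ?_
        rw [smul_mul_smul_comm, ← up_add hU, map_mul, Equiv.coe_addRight, add_sub_cancel_right]
    _ = ∑ c : ZMod p, ι k (∑ b : ZMod p, (c - b) * b⁻¹) • up U c := by
        rw [Finset.sum_comm]
        simp only [map_sum, Finset.sum_smul]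
    _ = opJ p U := by
        refine Finset.sum_congr rfl fun c _ => ?_
        simp only [sub_mul, Finset.sum_sub_distrib, ← Finset.mul_sum, sum_inv_eq_zero h3,
          sum_mul_inv, mul_zero, zero_sub, neg_neg, map_one, one_smul]

theorem opD_mul_opZ {U : Module.End k V} (hU : U ^ p = 1) (h3 : 3 ≤ p) :
    opD p U * opZ p U = opJ p U := by
  rw [← opZ_mul_opD hU h3]
  show Commute (opD p U) (opZ p U)
  refine Commute.sum_left _ _ _ fun a _ => Commute.smul_left (Commute.sum_right _ _ _ fun b _ =>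
    Commute.smul_right ((Commute.refl U).pow_pow _ _) _) _

theorem sub_one_pow {U : Module.End k V} (hU : U ^ p = 1) : (U - 1) ^ p = 0 := by
  have h := congrArg (aeval U)
    (sub_pow_char (R := Polynomial k) (p := p) (x := X) (y := (1 : Polynomial k)))
  simpa [hU] using h

theorem range_sub_one_le {U : Module.End k V} (hU : U ^ p = 1) (h3 : 3 ≤ p) :
    LinearMap.range (U - 1) ≤ LinearMap.range (opD p U) := by
  set g : Polynomial k :=
    ∑ a : ZMod p, C (ι k a⁻¹) * ∑ i ∈ Finset.range a.val, X ^ i with hg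
  have hD : opD p U = (U - 1) * aeval U g := by
    have h1 : (X - 1 : Polynomial k) * g =
        (∑ a : ZMod p, C (ι k a⁻¹) * X ^ a.val) - C (ι k (∑ a : ZMod p, a⁻¹)) := by
      rw [hg, Finset.mul_sum, map_sum, map_sum, ← Finset.sum_sub_distrib]
      refine Finset.sum_congr rfl fun a _ => ?_
      rw [← mul_assoc, mul_comm (X - 1 : Polynomial k), mul_assoc, mul_geom_sum, mul_sub, mul_one]
    have h2 := congrArg (aeval U) h1
    rw [map_mul, map_sub, Polynomial.aeval_X, map_one, map_sub, sum_inv_eq_zero h3] at h2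
    simp only [map_zero, sub_zero, map_sum] at h2
    rw [h2, opD]
    exact Finset.sum_congr rfl fun a _ => by
      rw [map_mul, Polynomial.aeval_C, map_pow, Polynomial.aeval_X, ← Algebra.smul_def, up]
  obtain ⟨q, hq⟩ : (X - C 1 : Polynomial k) ∣ g + 1 := by
    rw [Polynomial.dvd_iff_isRoot, Polynomial.IsRoot, Polynomial.eval_add, Polynomial.eval_one,
      hg, Polynomial.eval_finsetSum]
    simp only [Polynomial.eval_mul, Polynomial.eval_C, Polynomial.eval_finsetSum, Polynomial.eval_pow,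
      Polynomial.eval_X, one_pow, Finset.sum_const, Finset.card_range, nsmul_eq_mul, mul_one]
    rw [Finset.sum_congr rfl (g := fun a : ZMod p => ι k (a * a⁻¹)) fun a _ => by
      rw [map_mul, mul_comm]; congr 1; conv_rhs => rw [← ZMod.natCast_zmod_val a, map_natCast],
      ← map_sum, sum_mul_inv, map_neg, map_one, neg_add_cancel]
  have hnil : IsNilpotent (aeval U g + 1) := by
    have h1 := congrArg (aeval U) hq
    rw [map_add, map_one, map_mul, map_sub, Polynomial.aeval_X, Polynomial.C_1, map_one] at h1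
    rw [h1]
    refine Commute.isNilpotent_mul_right ?_ ⟨p, sub_one_pow hU⟩
    have := (Commute.all (X - 1 : Polynomial k) q).map (aeval U)
    simpa using this
  obtain ⟨u, hu⟩ : IsUnit (aeval U g) := by
    have h1 := hnil.isUnit_sub_one
    rwa [add_sub_cancel_right] at h1
  rintro x ⟨w, rfl⟩
  refine ⟨(↑u⁻¹ : Module.End k V) w, ?_⟩
  rw [hD, ← hu, ← Module.End.mul_apply, mul_assoc, Units.mul_inv, mul_one]

section Eigen

variable (Y : Module.End k V)

/-- The eigenspace. -/
def eig (μ : k) : Submodule k V := LinearMap.ker (Y - μ • 1)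

theorem mem_eig {μ : k} {v : V} : v ∈ eig Y μ ↔ Y v = μ • v := by
  simp [eig, sub_eq_zero]

/-- The projection onto the eigenspace. -/
noncomputable def proj (e : ℕ) (μ : k) : Module.End k V :=
  (e : k)⁻¹ • ∑ i ∈ Finset.range e, (μ⁻¹) ^ i • Y ^ i

variable {Y}

theorem proj_mem {e : ℕ} (hY : Y ^ e = 1) {μ : k} (hμ : μ ^ e = 1) (he : 0 < e) (v : V) :
    proj Y e μ v ∈ eig Y μ := by
  have hμ0 : μ ≠ 0 := fun h => by rw [h, zero_pow he.ne'] at hμ; exact zero_ne_one hμ
  set f : ℕ → V := fun i => (μ⁻¹) ^ i • (Y ^ i) v with hf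
  have hY' : ∀ i, Y (f i) = μ • f (i + 1) := fun i => by
    simp only [hf]
    rw [map_smul, ← Module.End.mul_apply, ← pow_succ', smul_smul, pow_succ' μ⁻¹ i, ← mul_assoc,
      mul_inv_cancel₀ hμ0, one_mul]
  have hsum : ∑ i ∈ Finset.range e, f (i + 1) = ∑ i ∈ Finset.range e, f i := by
    have h1 := Finset.sum_range_succ' f e
    rw [Finset.sum_range_succ, show f e = f 0 by simp [hf, hY, inv_pow, hμ]] at h1
    exact add_right_cancel h1.symm
  rw [mem_eig, proj]
  simp only [LinearMap.smul_apply, LinearMap.sum_apply, map_smul, map_sum]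
  rw [smul_comm μ, Finset.smul_sum (r := μ)]
  congr 1
  calc ∑ i ∈ Finset.range e, (μ⁻¹) ^ i • Y ((Y ^ i) v)
      = ∑ i ∈ Finset.range e, μ • f (i + 1) :=
        Finset.sum_congr rfl fun i _ => by rw [← hY' i, hf, map_smul]
    _ = ∑ i ∈ Finset.range e, μ • f i := by rw [← Finset.smul_sum, hsum, Finset.smul_sum]

theorem pow_apply_eig {μ : k} {v : V} (hv : v ∈ eig Y μ) (i : ℕ) : (Y ^ i) v = μ ^ i • v := by
  induction i with
  | zero => simp
  | succ n ih =>
    rw [pow_succ', Module.End.mul_apply, ih, map_smul, (mem_eig Y).1 hv, smul_smul, pow_succ]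

theorem proj_eig {e : ℕ} {μ : k} (he : (e : k) ≠ 0) (hμ : μ ≠ 0) {v : V} (hv : v ∈ eig Y μ) :
    proj Y e μ v = v := by
  rw [proj]
  simp only [LinearMap.smul_apply, LinearMap.sum_apply, pow_apply_eig hv, smul_smul, ← mul_pow,
    inv_mul_cancel₀ hμ, one_pow, one_smul, Finset.sum_const, Finset.card_range]
  rw [← Nat.cast_smul_eq_nsmul k, smul_smul, inv_mul_cancel₀ he, one_smul]

/-- A map shifting the action of `Y` by `c` shifts the projections. -/
theorem proj_comp {T : Module.End k V} {c : k} (hc : c ≠ 0) (hT : Y * T = c • (T * Y)) (e : ℕ)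
    {μ : k} : proj Y e (c * μ) * T = T * proj Y e μ := by
  have hi : ∀ i, Y ^ i * T = c ^ i • (T * Y ^ i) := by
    intro i
    induction i with
    | zero => simp
    | succ n ih =>
      rw [pow_succ', mul_assoc, ih, mul_smul_comm, ← mul_assoc, hT, smul_mul_assoc, smul_smul,
        ← pow_succ, mul_assoc, ← pow_succ']
  simp only [proj, smul_mul_assoc, mul_smul_comm, Finset.sum_mul, Finset.mul_sum]
  congr 1
  refine Finset.sum_congr rfl fun i _ => ?_
  rw [hi, smul_smul, mul_inv, mul_pow, mul_comm (c⁻¹ ^ i), mul_assoc, ← mul_pow,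
    inv_mul_cancel₀ hc, one_pow, mul_one]

theorem eig_map {T : Module.End k V} {c μ : k} (hT : Y * T = c • (T * Y)) {v : V}
    (hv : v ∈ eig Y μ) : T v ∈ eig Y (c * μ) := by
  rw [mem_eig, ← Module.End.mul_apply, hT, LinearMap.smul_apply, Module.End.mul_apply,
    (mem_eig Y).1 hv, map_smul, smul_smul]

theorem eig_inf {μ ν : k} (h : μ ≠ ν) : eig Y μ ⊓ eig Y ν = ⊥ := by
  rw [Submodule.eq_bot_iff]
  rintro v ⟨h1, h2⟩
  have h3 : (μ - ν) • v = 0 := by
    rw [sub_smul, ← (mem_eig Y).1 h1, ← (mem_eig Y).1 h2, sub_self]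
  exact (smul_eq_zero.1 h3).resolve_left (sub_ne_zero.2 h)

theorem finrank_eig [FiniteDimensional k V] {e : ℕ} (hY : Y ^ e = 1) {μ : k} (hμ : μ ^ e = 1)
    (he : 0 < e) (he' : (e : k) ≠ 0) :
    (e : k) * (Module.finrank k (eig Y μ) : k) =
      ∑ i ∈ Finset.range e, (μ⁻¹) ^ i * LinearMap.trace k V (Y ^ i) := by
  have hμ0 : μ ≠ 0 := fun h => by rw [h, zero_pow he.ne'] at hμ; exact zero_ne_one hμ
  have h1 : LinearMap.IsProj (eig Y μ) (proj Y e μ) :=
    ⟨proj_mem hY hμ he, fun v hv => proj_eig he' hμ0 hv⟩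
  rw [← h1.trace, proj, map_smul, smul_eq_mul, map_sum, ← mul_assoc, mul_inv_cancel₀ he', one_mul]
  simp only [map_smul, smul_eq_mul]

end Eigen

section Shift

variable {U Y : Module.End k V} {r : ZMod p}

theorem conj_up (hU : U ^ p = 1) (hYU : Y * U = up U r * Y) (a : ZMod p) :
    Y * up U a = up U (r * a) * Y := by
  rw [← ZMod.natCast_zmod_val a]
  generalize a.val = n
  induction n with
  | zero => simp [up_zero]
  | succ n ih =>
    rw [Nat.cast_succ, up_add hU, ← mul_assoc, ih, mul_assoc, up_one, hYU, ← mul_assoc,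
      ← up_add hU, mul_add, mul_one]

theorem conj_opJ (hU : U ^ p = 1) (hYU : Y * U = up U r * Y) (hr : r ≠ 0) :
    Y * opJ p U = (1 : k) • (opJ p U * Y) := by
  rw [one_smul, opJ, Finset.mul_sum, Finset.sum_mul]
  refine Fintype.sum_equiv (Equiv.mulLeft₀ r hr) _ _ fun a => ?_
  rw [conj_up hU hYU]
  rfl

theorem conj_opD (hU : U ^ p = 1) (hYU : Y * U = up U r * Y) (hr : r ≠ 0) :
    Y * opD p U = ι k r • (opD p U * Y) := by
  rw [opD, Finset.mul_sum, Finset.sum_mul, Finset.smul_sum]
  refine Fintype.sum_equiv (Equiv.mulLeft₀ r hr) _ _ fun a => ?_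
  rw [mul_smul_comm, conj_up hU hYU, show Equiv.mulLeft₀ r hr a = r * a from rfl, smul_mul_assoc, smul_smul, ← map_mul,
    mul_inv, ← mul_assoc, mul_inv_cancel₀ hr, one_mul]

theorem conj_opZ (hU : U ^ p = 1) (hYU : Y * U = up U r * Y) (hr : r ≠ 0) :
    Y * opZ p U = (ι k r)⁻¹ • (opZ p U * Y) := by
  rw [opZ, Finset.mul_sum, Finset.sum_mul, Finset.smul_sum]
  refine Fintype.sum_equiv (Equiv.mulLeft₀ r hr) _ _ fun a => ?_
  rw [mul_smul_comm, conj_up hU hYU, show Equiv.mulLeft₀ r hr a = r * a from rfl, smul_mul_assoc, smul_smul, map_mul,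
    ← mul_assoc, inv_mul_cancel₀ (by simpa using hr), one_mul]

end Shift

theorem finrank_map_add {W : Type*} [AddCommGroup W] [Module k W] [FiniteDimensional k V]
    (f : V →ₗ[k] W) (A : Submodule k V) :
    Module.finrank k (A.map f) + Module.finrank k (LinearMap.ker f ⊓ A : Submodule k V) =
      Module.finrank k A := by
  have h := LinearMap.finrank_range_add_finrank_ker (f ∘ₗ A.subtype)
  rw [LinearMap.range_comp, Submodule.range_subtype, LinearMap.ker_comp] at h
  rw [← h]
  congr 1
  have h2 : (LinearMap.ker f).comap A.subtype = (LinearMap.ker f ⊓ A).comap A.subtype := by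
    ext x; simp
  rw [h2]
  exact (Submodule.comapSubtypeEquivOfLe (inf_le_right : LinearMap.ker f ⊓ A ≤ A)).symm.finrank_eq

theorem mul_finrank_range_le [FiniteDimensional k V] {N : Module.End k V} {n : ℕ} (hn : 0 < n)
    (hN : N ^ n = 0) :
    n * Module.finrank k (LinearMap.range (N ^ (n - 1))) ≤ Module.finrank k V := by
  have hmono : ∀ j, j ≤ n → (n - j) * Module.finrank k (LinearMap.range (N ^ (n - 1))) ≤
      Module.finrank k (LinearMap.range (N ^ j)) := by
    intro j hj
    induction hd : n - j generalizing j with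
    | zero => simp
    | succ d ih =>
      have h1 := ih (j + 1) (by omega) (by omega)
      have h2 := finrank_map_add N (LinearMap.range (N ^ j))
      rw [← LinearMap.range_comp, ← Module.End.mul_eq_comp, ← pow_succ'] at h2
      have hle : LinearMap.range (N ^ (n - 1)) ≤ LinearMap.ker N ⊓ LinearMap.range (N ^ j) := by
        rintro x ⟨w, rfl⟩
        refine ⟨?_, (N ^ (n - 1 - j)) w, ?_⟩
        · show N ((N ^ (n - 1)) w) = 0
          rw [← Module.End.mul_apply, ← pow_succ', show n - 1 + 1 = n by omega, hN,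
            LinearMap.zero_apply]
        · rw [← Module.End.mul_apply, ← pow_add]
          congr 2
          omega
      have h3 := Submodule.finrank_mono hle
      rw [Nat.add_mul, one_mul]
      omega
  have h := hmono 0 (Nat.zero_le _)
  rw [Nat.sub_zero, pow_zero, Module.End.one_eq_id, LinearMap.range_id, finrank_top] at h
  exact h

theorem finrank_range_opJ [FiniteDimensional k V] {U : Module.End k V} (hU : U ^ p = 1) :
    p * Module.finrank k (LinearMap.range (opJ p U)) ≤ Module.finrank k V := by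
  have hp : p.Prime := Fact.out
  have hJ : opJ p U = (U - 1) ^ (p - 1) := by
    have hpoly : ((X - 1 : Polynomial k)) ^ (p - 1) = ∑ i ∈ Finset.range p, X ^ i := by
      have hne : (X - 1 : Polynomial k) ≠ 0 := by
        rw [← Polynomial.C_1]; exact Polynomial.X_sub_C_ne_zero 1
      refine mul_left_cancel₀ hne ?_
      rw [mul_geom_sum, ← pow_succ', show p - 1 + 1 = p by have := hp.one_le; omega, sub_pow_char,
        one_pow]
    have h := congrArg (aeval U) hpoly
    rw [map_pow, map_sub, Polynomial.aeval_X, map_one, map_sum] at h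
    rw [h, opJ]
    refine Finset.sum_nbij (fun a : ZMod p => a.val) (fun a _ => Finset.mem_range.2 (ZMod.val_lt a))
      (fun a _ b _ hab => ZMod.val_injective p hab)
      (fun n hn => ⟨(n : ZMod p), Finset.mem_univ _,
        ZMod.val_natCast_of_lt (Finset.mem_range.1 hn)⟩) (fun a _ => ?_)
    rw [map_pow, Polynomial.aeval_X, up]
  rw [hJ]
  exact mul_finrank_range_le hp.pos (sub_one_pow hU)

/-- If the `r`-eigenspace is larger than the fixed space and `J` kills it, it contains a vector
killed by `Z` outside the image of `U - 1`. -/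
theorem exists_vector [FiniteDimensional k V] {U Y : Module.End k V} {r : ZMod p} {e : ℕ}
    (h3 : 3 ≤ p) (hU : U ^ p = 1) (hY : Y ^ e = 1) (he : 0 < e) (he' : (e : k) ≠ 0)
    (hYU : Y * U = up U r * Y) (hr : r ≠ 0)
    (hlt : Module.finrank k (eig Y (1 : k)) < Module.finrank k (eig Y (ι k r)))
    (hJ : ∀ v ∈ eig Y (ι k r), opJ p U v = 0) :
    ∃ v ∈ eig Y (ι k r), opZ p U v = 0 ∧ v ∉ LinearMap.range (U - 1) := by
  by_contra hno
  push Not at hno
  have hρ0 : ι k r ≠ 0 := by simpa using hr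
  have hker : LinearMap.ker (opZ p U) ⊓ eig Y (ι k r) ≤ (eig Y (1 : k)).map (opD p U) := by
    rintro v ⟨hv, hvρ⟩
    obtain ⟨w, hw⟩ := range_sub_one_le hU h3 (hno v hvρ hv)
    refine ⟨proj Y e 1 w, proj_mem hY (one_pow e) he w, ?_⟩
    rw [← Module.End.mul_apply, ← proj_comp hρ0 (conj_opD hU hYU hr) e, Module.End.mul_apply, hw,
      mul_one, proj_eig he' hρ0 hvρ]
  have hmap : (eig Y (ι k r)).map (opZ p U) ≤ LinearMap.ker (opD p U) ⊓ eig Y (1 : k) := by
    rintro _ ⟨v, hv, rfl⟩
    refine ⟨?_, ?_⟩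
    · show opD p U (opZ p U v) = 0
      rw [← Module.End.mul_apply, opD_mul_opZ hU h3, hJ v hv]
    · have h1 := eig_map (conj_opZ hU hYU hr) hv
      rwa [inv_mul_cancel₀ hρ0] at h1
  have h1 := finrank_map_add (opZ p U) (eig Y (ι k r))
  have h2 := finrank_map_add (opD p U) (eig Y (1 : k))
  have h3' := Submodule.finrank_mono hker
  have h4 := Submodule.finrank_mono hmap
  omega

end CfsgLib.Perm.UniqueDegreeP.Weight
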