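import Cfsg.Agent.Lib.Perm.PrimeNormalizer
import Cfsg.Agent.Lib.Char.SchurBound
import Cfsg.Agent.Lib.Char.Virtual
import Cfsg.Agent.Lib.CharDegree.Basic

/-!
# Transitive groups of prime degree with one character of that degree

`Hyp G P E`: `G` is transitive of prime degree `p`, has exactly one irreducible character of
degree `p`, and `E` is a TI complement to `P` in its normalizer whose normalizer has order
`2 * |E|`.  Such a group is simple, and the nontrivial elements of `E` fix one point.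
-/

set_option autoImplicit false

namespace CfsgLib.Perm.UniqueDegreeP

open MulAction CfsgLib.Char CfsgLib.CharDegree CfsgLib.Perm.PrimeNormalizer
open scoped _root_.Classical Pointwise

variable {α : Type*} [Fintype α] [DecidableEq α] {p : ℕ} [Fact p.Prime]

/-- The hypotheses. -/
structure Hyp (G : Subgroup (Equiv.Perm α)) (P : Sylow p G) (E : Subgroup G) : Prop where
  card_eq : Fintype.card α = p
  trans : IsPretransitive G α
  uniq : ∃! χ : Cfsg.IrrCharacter G, Cfsg.charDegree (χ : G → ℂ) = p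
  sup_eq : (P : Subgroup G) ⊔ E = Subgroup.normalizer ((P : Subgroup G) : Set G)
  inf_eq : (P : Subgroup G) ⊓ E = ⊥
  card_norm : Nat.card (Subgroup.normalizer (E : Set G)) = 2 * Nat.card E
  ti : ∀ g : G, g ∉ Subgroup.normalizer (E : Set G) →
    E ⊓ E.map (MulAut.conj g).toMonoidHom = ⊥

/-- Coordinates adapted to `P` and `E`. -/
structure Frame (G : Subgroup (Equiv.Perm α)) (P : Sylow p G) (E : Subgroup G) where
  /-- The coordinates. -/
  e : ZMod p ≃ α
  /-- The translation. -/
  σ : G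
  /-- The dilatation. -/
  y : G
  /-- Its factor. -/
  r : ZMod p
  smul_σ : ∀ i, σ • e i = e (i + 1)
  zpowers_σ : Subgroup.zpowers σ = (P : Subgroup G)
  zpowers_y : Subgroup.zpowers y = E
  smul_y : ∀ i, y • e i = e (r * i)
  orderOf_r : orderOf r = Nat.card E

theorem natCard_eq_iff_pow {G : Type*} [Group G] {x : G} {n : ℕ} (h : orderOf x = n) :
    Nat.card (Subgroup.zpowers x) = n := by rw [Nat.card_zpowers, h]

variable {G : Subgroup (Equiv.Perm α)} {P : Sylow p G} {E : Subgroup G}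

theorem not_sq_dvd (h : Hyp G P E) : ¬ p ^ 2 ∣ Nat.card G := by
  intro h2
  have h1 := h2.trans (Subgroup.card_subgroup_dvd_card G)
  have hp : p.Prime := Fact.out
  rw [Nat.card_perm, Nat.card_eq_fintype_card, h.card_eq, ← Nat.mul_factorial_pred hp.ne_zero,
    pow_two] at h1
  have h3 := hp.dvd_factorial.1 (Nat.dvd_of_mul_dvd_mul_left hp.pos h1)
  have := hp.pos
  omega

theorem p_dvd_card (h : Hyp G P E) : p ∣ Nat.card G := by
  obtain ⟨a⟩ : Nonempty α := Fintype.card_pos_iff.1 (by rw [h.card_eq]; exact (Fact.out : p.Prime).pos)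
  have := h.trans
  have h1 := index_stabilizer_of_transitive G a
  rw [Nat.card_eq_fintype_card, h.card_eq] at h1
  exact h1 ▸ Subgroup.index_dvd_card _

theorem sylow_card (h : Hyp G P E) : Nat.card (P : Subgroup G) = p := by
  have hp : p.Prime := Fact.out
  have h1 := hp.factorization_pos_of_dvd Nat.card_pos.ne' (p_dvd_card h)
  have h2 : ¬ 2 ≤ (Nat.card G).factorization p := fun h2 =>
    not_sq_dvd h ((pow_dvd_pow p h2).trans (Nat.ordProj_dvd _ _))
  rw [P.card_eq_multiplicity, show (Nat.card G).factorization p = 1 by omega, pow_one]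

theorem exists_translation_coords (h : Hyp G P E) : ∃ (e : ZMod p ≃ α) (σ : G),
    (∀ i, σ • e i = e (i + 1)) ∧ Subgroup.zpowers σ = (P : Subgroup G) ∧ orderOf σ = p := by
  have hp : p.Prime := Fact.out
  have := h.trans
  obtain ⟨e, σ, hσ⟩ := CfsgLib.Perm.PrimeDegree.exists_coords (p := p) h.card_eq (G := G)
  have hσp : σ ^ p = 1 := coordHom_injective e (Equiv.ext fun i => by
    rw [coordHom_pow e hσ]; simp)
  have hσ1 : σ ≠ 1 := fun h1 => by
    have := hσ 0
    rw [h1, one_smul] at this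
    exact zero_ne_one (α := ZMod p) ((e.injective this).trans (zero_add _))
  have hord : orderOf σ = p := orderOf_eq_prime hσp hσ1
  obtain ⟨Q, hQ⟩ := (IsPGroup.of_card (n := 1) (G := Subgroup.zpowers σ)
    (by rw [Nat.card_zpowers, hord, pow_one])).exists_le_sylow
  obtain ⟨g, hg⟩ := MulAction.exists_smul_eq G Q P
  have hmem : g * σ * g⁻¹ ∈ (P : Subgroup G) := by
    rw [← hg, Sylow.coe_subgroup_smul, Subgroup.mem_pointwise_smul_iff_inv_smul_mem]
    simpa [mul_assoc] using hQ (Subgroup.mem_zpowers σ)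
  have hord' : orderOf (g * σ * g⁻¹) = p := by
    rw [← hord]; exact MulEquiv.orderOf_eq (MulAut.conj g) σ
  refine ⟨e.trans (MulAction.toPerm g), g * σ * g⁻¹, fun i => ?_, ?_, hord'⟩
  · show (g * σ * g⁻¹) • g • e i = g • e (i + 1)
    rw [← mul_smul, inv_mul_cancel_right, mul_smul, hσ]
  · refine Subgroup.eq_of_le_of_card_ge (Subgroup.zpowers_le.2 hmem) ?_
    rw [sylow_card h, Nat.card_zpowers, hord']

theorem apply_sq_le_card {H : Type*} [Group H] [Finite H] (χ : Cfsg.IrrCharacter H) :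
    Cfsg.charDegree (χ : H → ℂ) ^ 2 ≤ Nat.card H := by
  have := Fintype.ofFinite (Cfsg.IrrCharacter H)
  have h := sum_sq_degree (G := H)
  simp only [← cast_irrDegree] at h
  have h' : ∑ ψ : Cfsg.IrrCharacter H, Cfsg.charDegree (ψ : H → ℂ) ^ 2 = Nat.card H := by
    exact_mod_cast h
  rw [← h']
  exact Finset.single_le_sum (f := fun ψ : Cfsg.IrrCharacter H => Cfsg.charDegree (ψ : H → ℂ) ^ 2)
    (fun _ _ => Nat.zero_le _) (Finset.mem_univ χ)

theorem E_ne_bot (h : Hyp G P E) : E ≠ ⊥ := by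
  intro hE
  subst hE
  have h1 := h.card_norm
  rw [Subgroup.card_bot, Subgroup.normalizer_eq_top, Subgroup.card_top] at h1
  obtain ⟨χ, hχ, -⟩ := h.uniq
  have h2 := apply_sq_le_card χ
  rw [hχ, h1] at h2
  have := (Fact.out : p.Prime).two_le
  nlinarith

theorem exists_frame (h : Hyp G P E) : Nonempty (Frame G P E) := by
  have hp : p.Prime := Fact.out
  obtain ⟨e, σ, hσ, hP, hord⟩ := exists_translation_coords h
  set N := Subgroup.normalizer ((P : Subgroup G) : Set G) with hN
  have htr : ∀ g ∈ (P : Subgroup G), ∃ b : ZMod p, ∀ i, coordHom e g i = i + b := by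
    intro g hg
    rw [← hP, ← mem_powers_iff_mem_zpowers] at hg
    obtain ⟨n, rfl⟩ := (Submonoid.mem_powers_iff _ _).1 hg
    exact ⟨n, fun i => coordHom_pow e hσ n i⟩
  have haff : ∀ n : N, ∀ i, coordHom e (n : G) i =
      (coordHom e (n : G) 1 - coordHom e (n : G) 0) * i + coordHom e (n : G) 0 := by
    intro n
    obtain ⟨b, hb⟩ := htr ((n : G) * σ * (n : G)⁻¹)
      ((Subgroup.mem_normalizer_iff.1 n.2 σ).1 (hP ▸ Subgroup.mem_zpowers σ))
    have hstep : ∀ i, coordHom e (n : G) (i + 1) = coordHom e (n : G) i + b := by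
      intro i
      rw [← hb, ← Equiv.Perm.mul_apply, ← map_mul, inv_mul_cancel_right, map_mul,
        Equiv.Perm.mul_apply]
      congr 1
      have h1 := coordHom_pow e hσ 1 i
      rw [pow_one, Nat.cast_one] at h1
      exact h1.symm
    have hall : ∀ m : ℕ, coordHom e (n : G) (m : ZMod p) = coordHom e (n : G) 0 + m * b := by
      intro m
      induction m with
      | zero => simp
      | succ m ih => rw [Nat.cast_succ, hstep, ih]; ring
    intro i
    have h1 := hall 1
    rw [Nat.cast_one] at h1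
    have h2 := hall i.val
    rw [ZMod.natCast_zmod_val] at h2
    rw [h2, h1]; ring
  let μ : N →* ZMod p :=
    { toFun := fun n => coordHom e (n : G) 1 - coordHom e (n : G) 0
      map_one' := by simp
      map_mul' := fun a b => by
        simp only [Subgroup.coe_mul, map_mul, Equiv.Perm.mul_apply]
        rw [haff a (coordHom e (b : G) 1), haff a (coordHom e (b : G) 0)]
        ring }
  have hker : ∀ n : N, μ n = 1 → (n : G) ∈ (P : Subgroup G) := by
    intro n hn
    obtain ⟨t, ht⟩ := exists_translation e hσ (coordHom e (n : G) 0)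
    have : (n : G) = σ ^ (coordHom e (n : G) 0).val := coordHom_injective e (Equiv.ext fun i => by
      rw [haff n i, show coordHom e (n : G) 1 - coordHom e (n : G) 0 = 1 from hn, one_mul,
        coordHom_pow e hσ, ZMod.natCast_zmod_val])
    rw [this, ← hP]
    exact Subgroup.npow_mem_zpowers σ _
  have hEN : E ≤ N := le_sup_right.trans h.sup_eq.le
  let ν : E →* ZMod p := μ.comp (Subgroup.inclusion hEN)
  have hinj : Function.Injective ν := by
    intro a b hab
    have h1 : ν (a * b⁻¹) = 1 := by rw [map_mul, hab, ← map_mul, mul_inv_cancel, map_one]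
    have h2 : ((a * b⁻¹ : E) : G) ∈ (P : Subgroup G) ⊓ E := ⟨hker _ h1, (a * b⁻¹).2⟩
    rw [h.inf_eq, Subgroup.mem_bot] at h2
    exact mul_inv_eq_one.1 (Subtype.ext h2)
  have : IsCyclic E := isCyclic_of_subgroup_isDomain ν hinj
  obtain ⟨y, hy⟩ := IsCyclic.exists_generator (α := E)
  have hyE : Subgroup.zpowers (y : G) = E := le_antisymm (Subgroup.zpowers_le.2 y.2) fun z hz => by
    obtain ⟨k, hk⟩ := hy ⟨z, hz⟩
    exact ⟨k, by have := congrArg Subtype.val hk; simpa using this⟩
  have hr : orderOf (ν y) = Nat.card E := by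
    rw [orderOf_injective ν hinj, orderOf_eq_card_of_forall_mem_zpowers hy]
  have hr1 : ν y ≠ 1 := by
    intro h1
    rw [h1, orderOf_one, eq_comm, Subgroup.card_eq_one] at hr
    exact E_ne_bot h hr
  have hy' : ∀ i, coordHom e (y : G) i = ν y * i + coordHom e (y : G) 0 := fun i =>
    haff (Subgroup.inclusion hEN y) i
  set c := coordHom e (y : G) 0 / (1 - ν y) with hc
  have hne : (1 : ZMod p) - ν y ≠ 0 := sub_ne_zero.2 (Ne.symm hr1)
  refine ⟨⟨(Equiv.addRight c).trans e, σ, (y : G), ν y, fun i => ?_, hP, hyE, fun i => ?_, hr⟩⟩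
  · show σ • e (i + c) = e (i + 1 + c)
    rw [hσ, add_right_comm]
  · show (y : G) • e (i + c) = e (ν y * i + c)
    rw [← coordHom_apply e, hy']
    congr 1
    have : coordHom e (y : G) 0 = c * (1 - ν y) := by rw [hc, div_mul_cancel₀ _ hne]
    rw [this]; ring

theorem Frame.coe_orderOf_σ (h : Hyp G P E) (F : Frame G P E) : orderOf F.σ = p := by
  rw [← Nat.card_zpowers, F.zpowers_σ, sylow_card h]

theorem Frame.orderOf_y (F : Frame G P E) : orderOf F.y = Nat.card E := by
  rw [← Nat.card_zpowers, F.zpowers_y]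

theorem Frame.r_ne_zero (F : Frame G P E) : F.r ≠ 0 := by
  intro h0
  have h1 := F.smul_y 1
  rw [h0, zero_mul] at h1
  have h2 := F.smul_y 0
  rw [mul_zero] at h2
  exact one_ne_zero (F.e.injective (MulAction.injective F.y (h1.trans h2.symm)))

theorem Frame.r_ne_one (h : Hyp G P E) (F : Frame G P E) : F.r ≠ 1 := by
  intro h1
  have := F.orderOf_r
  rw [h1, orderOf_one, eq_comm, Subgroup.card_eq_one] at this
  exact E_ne_bot h this

theorem Frame.smul_y_pow (F : Frame G P E) (n : ℕ) (i : ZMod p) :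
    (F.y ^ n) • F.e i = F.e (F.r ^ n * i) := by
  induction n generalizing i with
  | zero => simp
  | succ n ih => rw [pow_succ', mul_smul, ih, F.smul_y, pow_succ', mul_assoc]

theorem Frame.smul_σ_pow (F : Frame G P E) (n : ℕ) (i : ZMod p) :
    (F.σ ^ n) • F.e i = F.e (i + n) := by
  induction n generalizing i with
  | zero => simp
  | succ n ih => rw [pow_succ', mul_smul, ih, F.smul_σ, Nat.cast_succ, add_assoc]

theorem ext_coords (F : Frame G P E) {a b : G} (hab : ∀ i, a • F.e i = b • F.e i) : a = b := by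
  refine Subtype.ext (Equiv.ext fun x => ?_)
  obtain ⟨i, rfl⟩ := F.e.surjective x
  exact hab i

theorem Frame.conj_σ (F : Frame G P E) : F.y * F.σ * F.y⁻¹ = F.σ ^ F.r.val := by
  rw [mul_inv_eq_iff_eq_mul]
  refine ext_coords F fun i => ?_
  rw [mul_smul, mul_smul, F.smul_σ, F.smul_y, F.smul_y, F.smul_σ_pow, ZMod.natCast_zmod_val,
    mul_add, mul_one]

theorem card_dvd_pred (h : Hyp G P E) : Nat.card E ∣ p - 1 := by
  obtain ⟨F⟩ := exists_frame h
  rw [← F.orderOf_r]
  exact orderOf_dvd_of_pow_eq_one (ZMod.pow_card_sub_one_eq_one F.r_ne_zero)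

theorem card_normalizer (h : Hyp G P E) :
    Nat.card (Subgroup.normalizer ((P : Subgroup G) : Set G)) = p * Nat.card E := by
  have hEN : E ≤ Subgroup.normalizer ((P : Subgroup G) : Set G) := le_sup_right.trans h.sup_eq.le
  rw [← h.sup_eq]
  conv_rhs => rw [← sylow_card h]
  have hd : Disjoint (P : Subgroup G) E := disjoint_iff.2 h.inf_eq
  rw [← Nat.card_prod]
  symm
  refine Nat.card_congr (Equiv.ofBijective
    (fun x : ↥(P : Subgroup G) × ↥E => (⟨(x.1 : G) * x.2, mul_mem (Subgroup.mem_sup_left x.1.2)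
      (Subgroup.mem_sup_right x.2.2)⟩ : ((P : Subgroup G) ⊔ E : Subgroup G))) ⟨?_, ?_⟩)
  · intro a b hab
    exact Subgroup.mul_injective_of_disjoint hd (congrArg Subtype.val hab)
  · rintro ⟨z, hz⟩
    rw [← SetLike.mem_coe, Subgroup.coe_mul_of_right_le_normalizer_left _ _ hEN] at hz
    obtain ⟨a, ha, b, hb, rfl⟩ := hz
    exact ⟨(⟨a, ha⟩, ⟨b, hb⟩), rfl⟩

theorem not_normal (h : Hyp G P E) : ¬ (P : Subgroup G).Normal := by
  intro hn
  have h1 := card_normalizer h
  rw [Subgroup.normalizer_eq_top_iff.2 hn, Subgroup.card_top] at h1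
  obtain ⟨χ, hχ, -⟩ := h.uniq
  have h2 := apply_sq_le_card χ
  rw [hχ, h1] at h2
  have h3 := Nat.le_of_dvd (by have := (Fact.out : p.Prime).two_le; omega) (card_dvd_pred h)
  have := (Fact.out : p.Prime).two_le
  nlinarith [Nat.mul_le_mul_left p h3, Nat.sub_add_cancel (show 1 ≤ p by omega)]

theorem five_le (h : Hyp G P E) : 5 ≤ p := by
  have hp : p.Prime := Fact.out
  by_contra hlt
  apply not_normal h
  have hc := Subgroup.card_subgroup_dvd_card G
  rw [Nat.card_perm, Nat.card_eq_fintype_card (α := α), h.card_eq] at hc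
  have hd := p_dvd_card h
  have hidx : Nat.card G = p * (P : Subgroup G).index := by
    rw [← Subgroup.card_mul_index (P : Subgroup G), sylow_card h]
  rw [hidx] at hc
  have h24 : p = 2 ∨ p = 3 := by
    rcases (show p = 2 ∨ p = 3 ∨ p = 4 by have := hp.two_le; omega) with h2 | h2 | h2
    · exact Or.inl h2
    · exact Or.inr h2
    · exact absurd (h2 ▸ hp) (by norm_num)
  have hle : (P : Subgroup G).index ∣ 2 := by
    rcases h24 with rfl | rfl
    · rw [show (2 : ℕ).factorial = 2 * 1 by rfl] at hc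
      exact (Nat.dvd_of_mul_dvd_mul_left (by norm_num) hc).trans (one_dvd 2)
    · rw [show (3 : ℕ).factorial = 3 * 2 by rfl] at hc
      exact Nat.dvd_of_mul_dvd_mul_left (by norm_num) hc
  rcases (Nat.dvd_prime Nat.prime_two).1 hle with h1 | h1
  · exact ⟨fun z _ g => by rw [show (P : Subgroup G) = ⊤ from Subgroup.index_eq_one.1 h1]; trivial⟩
  · exact Subgroup.normal_of_index_eq_two h1

/-- A nontrivial element of `E` fixes exactly one point. -/
theorem fixed_iff (h : Hyp G P E) (F : Frame G P E) {z : G} (hz : z ∈ E) (hz1 : z ≠ 1)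
    (i : ZMod p) : z • F.e i = F.e i ↔ i = 0 := by
  rw [← F.zpowers_y, ← mem_powers_iff_mem_zpowers] at hz
  obtain ⟨n, rfl⟩ := (Submonoid.mem_powers_iff _ _).1 hz
  rw [F.smul_y_pow, F.e.apply_eq_iff_eq]
  refine ⟨fun h1 => ?_, fun h1 => by rw [h1, mul_zero]⟩
  by_contra hi
  have h2 : F.r ^ n = 1 := mul_right_cancel₀ hi (h1.trans (one_mul i).symm)
  rw [← orderOf_dvd_iff_pow_eq_one, F.orderOf_r, ← F.orderOf_y, orderOf_dvd_iff_pow_eq_one] at h2
  exact hz1 h2

/-- Linear characters are trivial on `E`. -/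
theorem linear_eq_one (h : Hyp G P E) (l : G →* ℂˣ) {z : G} (hz : z ∈ E) : l z = 1 := by
  by_contra hne
  obtain ⟨χ, hχ, huniq⟩ := h.uniq
  have ho : orderOf (l z) ≠ 1 := fun h1 => hne (orderOf_eq_one_iff.1 h1)
  obtain ⟨q, hq, hqo⟩ := Nat.exists_prime_and_dvd ho
  have := Fact.mk hq
  -- the `q`-part of `z`
  obtain ⟨a, m, hm, hzm⟩ := Nat.exists_eq_pow_mul_and_not_dvd (orderOf_pos z).ne' q hq.ne_one
  set w := z ^ m with hw
  have hwq : w ^ q ^ a = 1 := by rw [hw, ← pow_mul, mul_comm, ← hzm, pow_orderOf_eq_one]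
  have hlw : l w ≠ 1 := by
    intro h1
    rw [hw, map_pow, ← orderOf_dvd_iff_pow_eq_one] at h1
    exact hm (hqo.trans h1)
  have hψ : Cfsg.IsIrrCharacter G fun g => (l g : ℂ) * (χ : G → ℂ) g := by
    have : Fintype G := Fintype.ofFinite G
    refine IsChar.isIrr_of_classInner_eq_one
      (IsChar.mul (IsIrr.isCharacter (isIrrCharacter_linear l)) (IsIrr.isCharacter χ.2)) ?_
    rw [← classInner_irr_self χ]
    simp only [Cfsg.classInner, Pi.mul_apply, map_mul]
    refine congrArg _ (Finset.sum_congr rfl fun g _ => ?_)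
    have hl : (l g : ℂ) * (starRingEnd ℂ) (l g : ℂ) = 1 := by
      rw [← IsIrr.map_inv (isIrrCharacter_linear l), map_inv, Units.val_inv_eq_inv_val,
        mul_inv_cancel₀ (Units.ne_zero _)]
    linear_combination ((χ : G → ℂ) g * (starRingEnd ℂ) ((χ : G → ℂ) g)) * hl
  have heq : (⟨_, hψ⟩ : Cfsg.IrrCharacter G) = χ := huniq _ (by
    refine charDegree_eq_of_apply_one ?_
    show (l 1 : ℂ) * (χ : G → ℂ) 1 = (p : ℕ)
    rw [map_one, Units.val_one, one_mul, ← cast_irrDegree χ, hχ])
  have h0 : (χ : G → ℂ) w = 0 := by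
    have h1 := congrFun (congrArg Subtype.val heq) w
    simp only at h1
    by_contra hne0
    exact hlw (Units.ext (mul_right_cancel₀ hne0 (h1.trans (one_mul _).symm)))
  obtain ⟨v, hv, hd, -, -⟩ := CfsgLib.SchurBound.value_bound (p := q) (IsIrr.isCharacter χ.2)
    (n := p) (by rw [← cast_irrDegree χ, hχ]) one_pos (by simpa using hq.one_lt.ne')
    ⟨a, hwq⟩ (by rw [h0]; exact zero_mem _)
  have hv0 : v = 0 := by exact_mod_cast (hv.symm.trans h0)
  rw [hv0, sub_zero, Int.natCast_dvd_natCast] at hd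
  have hqp : q = p := (Nat.prime_dvd_prime_iff_eq hq Fact.out).1 hd
  have hqe : q ∣ Nat.card E := hqo.trans ((orderOf_map_dvd l z).trans
    (Subgroup.orderOf_mk z hz ▸ orderOf_dvd_natCard (⟨z, hz⟩ : E)))
  have h5 := Nat.le_of_dvd (by have := (Fact.out : p.Prime).two_le; omega)
    (hqe.trans (card_dvd_pred h))
  have := hq.two_le
  omega

theorem perfect (h : Hyp G P E) : commutator G = ⊤ := by
  by_contra hne
  obtain ⟨ψ, hψ1, hψ⟩ := exists_linear_ne_one hne
  obtain ⟨l, hl⟩ := exists_linear_of_degree_one (IsIrr.isCharacter ψ.2)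
    (by rw [← cast_irrDegree ψ, hψ1, Nat.cast_one])
  obtain ⟨F⟩ := exists_frame h
  have hE : ∀ z ∈ E, l z = 1 := fun z hz => linear_eq_one h l hz
  have hP : ∀ z ∈ (P : Subgroup G), l z = 1 := by
    have hσ : l F.σ = 1 := by
      have h1 := congrArg l F.conj_σ
      rw [map_mul, map_mul, map_inv, hE _ (F.zpowers_y.le (Subgroup.mem_zpowers F.y)), one_mul,
        inv_one, mul_one, map_pow] at h1
      have h2 : orderOf (l F.σ) ∣ p :=
        (orderOf_map_dvd l F.σ).trans (dvd_of_eq (F.coe_orderOf_σ h))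
      rcases (Nat.dvd_prime Fact.out).1 h2 with h3 | h3
      · exact orderOf_eq_one_iff.1 h3
      exfalso
      refine F.r_ne_one h (ZMod.val_injective p ?_)
      rw [ZMod.val_one]
      have hh := (pow_inj_mod (x := l F.σ) (n := F.r.val) (m := 1)).1 (by rw [pow_one]; exact h1.symm)
      rw [h3, Nat.mod_eq_of_lt (ZMod.val_lt _),
        Nat.mod_eq_of_lt (Fact.out : p.Prime).one_lt] at hh
      exact hh
    intro z hz
    rw [← F.zpowers_σ] at hz
    obtain ⟨k, rfl⟩ := hz
    show l (F.σ ^ k) = 1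
    rw [map_zpow, hσ, one_zpow]
  apply hψ
  funext g
  have hsup : Subgroup.normalClosure ((P : Subgroup G) : Set G) ⊔ E = ⊤ := by
    have hPM : (P : Subgroup G) ≤ Subgroup.normalClosure ((P : Subgroup G) : Set G) :=
      Subgroup.le_normalClosure
    refine le_antisymm le_top ?_
    rw [← Sylow.normalizer_sup_eq_top' P hPM]
    exact sup_le (h.sup_eq.ge.trans (sup_le (hPM.trans le_sup_left) le_sup_right)) le_sup_left
  have hle : (⊤ : Subgroup G) ≤ l.ker := hsup ▸
    sup_le (Subgroup.normalClosure_le_normal fun z hz => hP z hz) fun z hz => hE z hz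
  rw [hl]
  show (l g : ℂ) = 1
  rw [show l g = 1 from hle (Subgroup.mem_top g), Units.val_one]

theorem isSimpleGroup (h : Hyp G P E) : IsSimpleGroup G := by
  have hp : p.Prime := Fact.out
  have := h.trans
  have : IsPreprimitive G α := IsPreprimitive.of_prime_card
    (by rw [Nat.card_eq_fintype_card, h.card_eq]; exact hp)
  have : Nontrivial G := by
    rw [← Finite.one_lt_card_iff_nontrivial]
    exact lt_of_lt_of_le hp.one_lt (Nat.le_of_dvd Nat.card_pos (p_dvd_card h))
  refine ⟨fun M hM => ?_⟩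
  by_cases hM1 : M = ⊥
  · exact Or.inl hM1
  right
  have := hM
  have : IsPretransitive M α := IsQuasiPreprimitive.isPretransitive_of_normal (G := G) fun hfix =>
    hM1 ((Subgroup.eq_bot_iff_forall _).2 fun m hm => Subtype.ext (Equiv.ext fun u =>
      (Set.eq_univ_iff_forall.1 hfix u) ⟨m, hm⟩))
  obtain ⟨a⟩ : Nonempty α := Fintype.card_pos_iff.1 (by rw [h.card_eq]; exact hp.pos)
  have hpM : p ∣ Nat.card M := by
    have h1 := index_stabilizer_of_transitive M a
    rw [Nat.card_eq_fintype_card, h.card_eq] at h1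
    exact h1 ▸ Subgroup.index_dvd_card _
  obtain ⟨⟨z, hz⟩, hzo⟩ := exists_prime_orderOf_dvd_card' (G := M) p hpM
  rw [← orderOf_submonoid] at hzo
  obtain ⟨Q, hQ⟩ := (IsPGroup.of_card (n := 1) (G := Subgroup.zpowers z)
    (by rw [Nat.card_zpowers, hzo, pow_one])).exists_le_sylow
  have hQM : (Q : Subgroup G) ≤ M := by
    rw [← Subgroup.eq_of_le_of_card_ge hQ (by
      rw [Q.card_eq_multiplicity, ← P.card_eq_multiplicity, sylow_card h, Nat.card_zpowers, hzo])]
    exact Subgroup.zpowers_le.2 hz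
  obtain ⟨g, hg⟩ := MulAction.exists_smul_eq G Q P
  have hPM : (P : Subgroup G) ≤ M := by
    rw [← hg, Sylow.coe_subgroup_smul]
    rintro _ ⟨v, hv, rfl⟩
    exact hM.conj_mem v (hQM hv) g
  have hsup : M ⊔ E = ⊤ := by
    refine le_antisymm le_top ?_
    rw [← Sylow.normalizer_sup_eq_top' P hPM]
    exact sup_le (h.sup_eq.ge.trans (sup_le (hPM.trans le_sup_left) le_sup_right)) le_sup_left
  have : IsCyclic E := by
    obtain ⟨F⟩ := exists_frame h
    rw [← F.zpowers_y]
    infer_instance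
  -- the quotient is abelian, so trivial
  have hcomm : commutator G ≤ M := by
    refine Subgroup.Normal.quotient_commutative_iff_commutator_le.1 ⟨⟨fun a b => ?_⟩⟩
    obtain ⟨a, rfl⟩ := QuotientGroup.mk'_surjective M a
    obtain ⟨b, rfl⟩ := QuotientGroup.mk'_surjective M b
    have hE : ∀ g : G, ∃ z ∈ E, QuotientGroup.mk' M g = QuotientGroup.mk' M z := by
      intro g
      have hg : g ∈ (M : Set G) * (E : Set G) := by
        rw [← Subgroup.normal_mul, hsup]; trivial
      obtain ⟨m, hm, z, hz, rfl⟩ := hg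
      exact ⟨z, hz, by rw [map_mul, (QuotientGroup.eq_one_iff m).2 hm |> fun h => (show
        QuotientGroup.mk' M m = 1 from h), one_mul]⟩
    obtain ⟨za, ha, ea⟩ := hE a
    obtain ⟨zb, hb, eb⟩ := hE b
    rw [ea, eb, ← map_mul, ← map_mul]
    congr 1
    exact congrArg Subtype.val ((IsCyclic.commGroup (α := E)).mul_comm ⟨za, ha⟩ ⟨zb, hb⟩)
  exact top_le_iff.1 (perfect h ▸ hcomm)

end CfsgLib.Perm.UniqueDegreeP
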