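import Mathlib.GroupTheory.GroupAction.Quotient
import Mathlib.Algebra.BigOperators.Group.Finset.Basic
import Mathlib.Tactic.IntervalCases
import Mathlib.Algebra.BigOperators.Ring.Finset
import Mathlib.Algebra.Order.BigOperators.Group.Finset
import Mathlib.SetTheory.Cardinal.Finite
import Mathlib.GroupTheory.Index

/-!
# The equation of the poles

A finite group acting on a finite set so that every nontrivial element fixes exactly two points
and no stabilizer is trivial, with a stabilizer of odd order at least three.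
-/

set_option autoImplicit false

namespace CfsgLib.Perm.UniqueDegreeP

open MulAction
open scoped _root_.Classical

theorem pole_arith {h e a1 a2 m2 a3 m3 : ℕ} (hodd : Odd e) (he3 : 3 ≤ e) (h1 : a1 * e = h)
    (ha1 : 0 < a1) (h2 : a2 * m2 = h) (hm2 : 2 ≤ m2) (h3 : a3 * m3 = h) (hm3 : 2 ≤ m3)
    (hle : m2 ≤ m3) (heq : a2 + a3 + a1 = h + 2) :
    h = 2 * e ∨ (h = 12 ∧ e = 3) ∨ (h = 24 ∧ e = 3) ∨ (h = 60 ∧ (e = 3 ∨ e = 5)) := by
  have hb1 : 3 * a1 ≤ h := by rw [← h1, mul_comm a1]; exact Nat.mul_le_mul_right a1 he3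
  have hm : m2 = 2 := by
    by_contra hne
    have hb2 : 3 * a2 ≤ h := by
      rw [← h2, mul_comm a2]; exact Nat.mul_le_mul_right a2 (by omega)
    have hb3 : 3 * a3 ≤ h := by
      rw [← h3, mul_comm a3]; exact Nat.mul_le_mul_right a3 (by omega)
    omega
  subst hm
  rcases (show m3 = 2 ∨ 3 ≤ m3 by omega) with hm3' | hm3'
  · subst hm3'
    have : a1 = 2 := by omega
    subst this
    exact Or.inl h1.symm
  have hb3 : 3 * a3 ≤ h := by rw [← h3, mul_comm a3]; exact Nat.mul_le_mul_right a3 hm3'
  have he7 : e < 7 := by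
    by_contra hge
    have : 7 * a1 ≤ h := by rw [← h1, mul_comm a1]; exact Nat.mul_le_mul_right a1 (by omega)
    omega
  obtain ⟨j, hj⟩ := hodd
  rcases (show e = 3 ∨ e = 5 by omega) with he | he <;> subst he
  · have hm6 : m3 < 6 := by
      by_contra hge
      have : 6 * a3 ≤ h := by rw [← h3, mul_comm a3]; exact Nat.mul_le_mul_right a3 (by omega)
      omega
    interval_cases m3 <;> omega
  · have hm4 : m3 < 4 := by
      by_contra hge
      have : 4 * a3 ≤ h := by rw [← h3, mul_comm a3]; exact Nat.mul_le_mul_right a3 (by omega)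
      omega
    interval_cases m3
    omega

theorem pole_count {H Ω : Type*} [Group H] [Finite H] [Finite Ω] [MulAction H Ω]
    (hfix : ∀ g : H, g ≠ 1 → Nat.card (fixedBy Ω g) = 2)
    (hne : ∀ x : Ω, stabilizer H x ≠ ⊥) (x₀ : Ω) {e : ℕ} (he : Nat.card (stabilizer H x₀) = e)
    (hodd : Odd e) (he3 : 3 ≤ e) :
    Nat.card H = e ∨ Nat.card H = 2 * e ∨ (Nat.card H = 12 ∧ e = 3) ∨ (Nat.card H = 24 ∧ e = 3) ∨
      (Nat.card H = 60 ∧ (e = 3 ∨ e = 5)) := by
  have : Fintype H := Fintype.ofFinite H
  have : Fintype Ω := Fintype.ofFinite Ω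
  set Q := Quotient (orbitRel H Ω)
  have : Fintype Q := Fintype.ofFinite Q
  set h := Nat.card H with hh
  have hpos : 0 < h := Nat.card_pos
  let x : Q → Ω := fun q => if q = Quotient.mk'' x₀ then x₀ else q.out
  have hx : Function.LeftInverse Quotient.mk'' x := fun q => by
    by_cases hq : q = Quotient.mk'' x₀
    · simp only [x, hq, if_true]
    · simp only [x, hq, if_false]; exact Quotient.out_eq' q
  set a : Q → ℕ := fun q => (stabilizer H (x q)).index with ha
  set m : Q → ℕ := fun q => Nat.card (stabilizer H (x q)) with hm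
  have ham : ∀ q, a q * m q = h := fun q => (stabilizer H (x q)).index_mul_card
  have hm2 : ∀ q, 2 ≤ m q := fun q => by
    have h0 : m q ≠ 0 := Nat.card_pos.ne'
    have h1 : m q ≠ 1 := fun h1 => hne (x q) (Subgroup.card_eq_one.1 h1)
    omega
  have ha0 : ∀ q, 0 < a q := fun q => Nat.pos_of_ne_zero fun h0 => by
    have := ham q; rw [h0, zero_mul] at this; omega
  have hsum : ∑ q : Q, a q = Nat.card Ω := by
    rw [Nat.card_congr (selfEquivSigmaOrbitsQuotientStabilizer' H Ω hx), Nat.card_sigma]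
    rfl
  have hburn : Fintype.card Q * h = Nat.card Ω + 2 * (h - 1) := by
    have h1 := sum_card_fixedBy_eq_card_orbits_mul_card_group H Ω
    rw [← Finset.add_sum_erase _ _ (Finset.mem_univ (1 : H))] at h1
    rw [Finset.sum_congr rfl (g := fun _ => 2) fun g hg => by
      rw [← Nat.card_eq_fintype_card]; exact hfix g (Finset.mem_erase.1 hg).1] at h1
    rw [Finset.sum_const, Finset.card_erase_of_mem (Finset.mem_univ _), Finset.card_univ,
      smul_eq_mul, ← Nat.card_eq_fintype_card, ← Nat.card_eq_fintype_card (α := H), ← hh,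
      show Nat.card (fixedBy Ω (1 : H)) = Nat.card Ω from
        Nat.card_congr (Equiv.subtypeUnivEquiv fun y => one_smul H y)] at h1
    rw [mul_comm 2]
    exact h1.symm
  set q₁ : Q := Quotient.mk'' x₀ with hq₁
  have hm1 : m q₁ = e := by
    rw [hm, ← he]
    simp only [x, hq₁, if_true]
  have ha1 := ham q₁
  rw [hm1] at ha1
  set s := (Finset.univ : Finset Q).erase q₁ with hs
  have hs1 : s.card + 1 = Fintype.card Q := by
    rw [hs, Finset.card_erase_of_mem (Finset.mem_univ _), Finset.card_univ]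
    have : 0 < Fintype.card Q := Fintype.card_pos_iff.2 ⟨q₁⟩
    omega
  rw [← hsum, ← Finset.add_sum_erase _ _ (Finset.mem_univ q₁), ← hs, ← hs1, Nat.add_mul, one_mul]
    at hburn
  have hle : 2 * (∑ q ∈ s, a q) ≤ s.card * h := by
    rw [Finset.mul_sum, ← smul_eq_mul, ← Finset.sum_const]
    refine Finset.sum_le_sum fun q _ => ?_
    rw [← ham q, mul_comm 2]
    exact Nat.mul_le_mul_left _ (hm2 q)
  have hb1 : 3 * a q₁ ≤ h := by rw [← ha1, mul_comm (a q₁)]; exact Nat.mul_le_mul_right _ he3
  have hcard : s.card < 3 := by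
    by_contra hge
    have : 3 * h ≤ s.card * h := Nat.mul_le_mul_right h (by omega)
    omega
  rcases (show s.card = 0 ∨ s.card = 1 ∨ s.card = 2 by omega) with hc | hc | hc
  · rw [Finset.card_eq_zero.1 hc, Finset.sum_empty, Finset.card_empty, zero_mul] at hburn
    have := ha0 q₁
    omega
  · obtain ⟨q, hq⟩ := Finset.card_eq_one.1 hc
    rw [hq, Finset.sum_singleton, Finset.card_singleton, one_mul] at hburn
    have := ha0 q
    have := ha0 q₁
    have h2 : a q₁ = 1 := by omega
    rw [h2, one_mul] at ha1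
    exact Or.inl ha1.symm
  · obtain ⟨q, q', hqq, hq⟩ := Finset.card_eq_two.1 hc
    rw [hq, Finset.sum_pair hqq, Finset.card_pair hqq] at hburn
    right
    rcases le_total (m q) (m q') with hl | hl
    · exact pole_arith hodd he3 ha1 (ha0 q₁) (ham q) (hm2 q) (ham q') (hm2 q') hl (by omega)
    · exact pole_arith hodd he3 ha1 (ha0 q₁) (ham q') (hm2 q') (ham q) (hm2 q) hl (by omega)

end CfsgLib.Perm.UniqueDegreeP
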