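import Cfsg.Agent.Lib.Perm.UniqueDegreeP.Basic
import Cfsg.Agent.Lib.Char.MultiTransitive
import Cfsg.Agent.S0676

/-!
# The case of a complement of even order
-/

set_option autoImplicit false

namespace CfsgLib.Perm.UniqueDegreeP

open MulAction CfsgLib.MultiTrans
open scoped _root_.Classical

variable {α : Type*} [Fintype α] [DecidableEq α] {p : ℕ} [Fact p.Prime]
variable {G : Subgroup (Equiv.Perm α)} {P : Sylow p G} {E : Subgroup G}

theorem sign_eq_one (h : Hyp G P E) (g : G) : Equiv.Perm.sign (g : Equiv.Perm α) = 1 := by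
  have h1 : commutator G ≤ (Equiv.Perm.sign.comp G.subtype).ker :=
    Abelianization.commutator_subset_ker _
  rw [perfect h] at h1
  exact h1 (Subgroup.mem_top g)

theorem card_ne_pred (h : Hyp G P E) : Nat.card E ≠ p - 1 := by
  intro he
  have hp : p.Prime := Fact.out
  have h5 := five_le h
  obtain ⟨F⟩ := exists_frame h
  set f : Equiv.Perm α := (F.y : Equiv.Perm α) with hf
  have hfa : ∀ i, f (F.e i) = F.e (F.r * i) := F.smul_y
  have hfix : ∀ i, f (F.e i) = F.e i ↔ i = 0 := fun i => by
    rw [hfa, F.e.apply_eq_iff_eq]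
    refine ⟨fun h1 => ?_, fun h1 => by rw [h1, mul_zero]⟩
    by_contra hi
    exact F.r_ne_one h (mul_right_cancel₀ hi (h1.trans (one_mul i).symm))
  have hsupp : f.support = Finset.univ.erase (F.e 0) := by
    ext x
    obtain ⟨i, rfl⟩ := F.e.surjective x
    rw [Equiv.Perm.mem_support, Ne, hfix, Finset.mem_erase, F.e.injective.ne_iff]
    simp
  have hord : orderOf (Units.mk0 F.r F.r_ne_zero) = p - 1 := by
    rw [← orderOf_units, Units.val_mk0, F.orderOf_r, he]
  have hcyc : f.IsCycle := by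
    refine ⟨F.e 1, fun h1 => one_ne_zero ((hfix 1).1 h1), fun x hx => ?_⟩
    obtain ⟨i, rfl⟩ := F.e.surjective x
    have hi : i ≠ 0 := fun h1 => hx ((hfix i).2 h1)
    have htop : Subgroup.zpowers (Units.mk0 F.r F.r_ne_zero) = ⊤ :=
      Subgroup.eq_top_of_card_eq _ (by
        rw [Nat.card_zpowers, hord, Nat.card_eq_fintype_card, ZMod.card_units])
    obtain ⟨n, hn⟩ := (Submonoid.mem_powers_iff _ _).1
      (mem_powers_iff_mem_zpowers.2 (htop ▸ Subgroup.mem_top (Units.mk0 i hi)))
    refine ⟨(n : ℤ), ?_⟩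
    rw [zpow_natCast]
    show ((F.y : Equiv.Perm α) ^ n) (F.e 1) = F.e i
    have h1 := F.smul_y_pow n 1
    rw [show F.r ^ n = i by simpa using congrArg Units.val hn, mul_one] at h1
    exact h1
  have hs := sign_eq_one h F.y
  rw [← hf, hcyc.sign, hsupp, Finset.card_erase_of_mem (Finset.mem_univ _), Finset.card_univ,
    h.card_eq, (hp.even_sub_one (by omega)).neg_one_pow] at hs
  simp at hs

theorem two_mul_card_le (h : Hyp G P E) : 2 * Nat.card E ≤ p - 1 := by
  obtain ⟨k, hk⟩ := card_dvd_pred h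
  have h1 := card_ne_pred h
  rcases k with _ | _ | k
  · have := five_le h; omega
  · exact absurd (by rw [hk, zero_add, mul_one]) h1
  · rw [hk, mul_comm 2]; exact Nat.mul_le_mul_left _ (by omega)

theorem centralizer_le (h : Hyp G P E) {z : G} (hz : z ∈ E) (hz1 : z ≠ 1) :
    Subgroup.centralizer ({z} : Set G) ≤ Subgroup.normalizer (E : Set G) := by
  intro g hg
  by_contra hgN
  have h1 : z ∈ E ⊓ E.map (MulAut.conj g).toMonoidHom := ⟨hz, z, hz, by
    show g * z * g⁻¹ = z
    rw [Subgroup.mem_centralizer_singleton_iff.1 hg, mul_inv_cancel_right]⟩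
  rw [h.ti g hgN, Subgroup.mem_bot] at h1
  exact hz1 h1

theorem insoluble (h : Hyp G P E) : ¬ Group.IsSolvable G := by
  intro hs
  have : Nontrivial G := (isSimpleGroup h).toNontrivial
  exact (Group.IsSolvable.commutator_lt_top_of_nontrivial G).ne (perfect h)

theorem even_case (h : Hyp G P E) (heven : Even (Nat.card E)) :
    p = 5 ∧ Nat.card G = 60 ∧ Nat.card E = 2 := by
  have hp : p.Prime := Fact.out
  have h5 := five_le h
  have := h.trans
  have hN := card_normalizer h
  have h3 : IsMultiplyPretransitive G α 3 := Cfsg.Agent.S0676.result h.card_eq G (insoluble h) P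
    (by rw [hN]; exact heven.mul_left p)
  have hαn : Nat.card α = p := by rw [Nat.card_eq_fintype_card, h.card_eq]
  have h2 : IsMultiplyPretransitive G α 2 :=
    isMultiplyPretransitive_of_le (n := 3) (by norm_num) (by rw [hαn]; omega)
  have : IsPretransitive G (Fin 3 ↪ α) := h3
  obtain ⟨F⟩ := exists_frame h
  obtain ⟨m, hm⟩ := heven
  set t := F.y ^ m with ht
  have he0 : 0 < Nat.card E := Nat.card_pos
  have htE : t ∈ E := ht ▸ pow_mem (F.zpowers_y.le (Subgroup.mem_zpowers F.y)) m
  have ht1 : t ≠ 1 := by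
    intro h1
    have := Nat.le_of_dvd (by omega) (orderOf_dvd_of_pow_eq_one (ht ▸ h1))
    rw [F.orderOf_y] at this
    omega
  have ht2 : t * t = 1 := by
    rw [ht, ← pow_add, ← hm, ← F.orderOf_y, pow_orderOf_eq_one]
  set C := Subgroup.centralizer ({t} : Set G) with hC
  have hCle : Nat.card C ≤ p - 1 := by
    refine le_trans ?_ (two_mul_card_le h)
    rw [← h.card_norm]
    exact Subgroup.card_le_of_le (centralizer_le h htE ht1)
  have : Fintype G := Fintype.ofFinite G
  set K : Finset G := Finset.univ.filter fun g => IsConj t g with hK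
  have hKcard : K.card * Nat.card C = Nat.card G := by
    rw [← C.index_mul_card]
    congr 1
    rw [hC, ← CfsgLib.Char.card_carrier_eq_index, hK, ← Fintype.card_subtype,
      ← Nat.card_eq_fintype_card]
    exact Nat.card_congr (Equiv.subtypeEquivRight fun g => by
      rw [ConjClasses.mem_carrier_iff_mk_eq, ConjClasses.mk_eq_mk_iff_isConj, isConj_comm])
  have htwo : ∀ g ∈ K, twoN α g = p - 1 := by
    intro g hg
    rw [hK, Finset.mem_filter] at hg
    obtain ⟨c, rfl⟩ := isConj_iff.1 hg.2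
    have hiff : ∀ a : α, (c * t * c⁻¹) • a ≠ a ↔ a ≠ c • F.e 0 := by
      intro a
      obtain ⟨i, hi⟩ := F.e.surjective (c⁻¹ • a)
      rw [show a = c • F.e i by rw [hi, smul_inv_smul], ← mul_smul, inv_mul_cancel_right, mul_smul,
        (MulAction.injective c).ne_iff, (MulAction.injective c).ne_iff, Ne, fixed_iff h F htE ht1,
        F.e.injective.ne_iff]
    rw [twoN, Nat.card_eq_fintype_card, Fintype.card_subtype,
      show (Finset.univ.filter fun a : α => (c * t * c⁻¹) • ((c * t * c⁻¹) • a) = a ∧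
          (c * t * c⁻¹) • a ≠ a) = Finset.univ.erase (c • F.e 0) by
        ext a
        rw [Finset.mem_filter, hiff, ← mul_smul,
          show c * t * c⁻¹ * (c * t * c⁻¹) = c * (t * t) * c⁻¹ by group, ht2, mul_one,
          mul_inv_cancel, one_smul, Finset.mem_erase]
        simp,
      Finset.card_erase_of_mem (Finset.mem_univ _), Finset.card_univ, h.card_eq]
  have hsum : ∑ g : G, twoN α g = Nat.card G := by
    rw [← sum_cyc (G := G) (Ω := α) 2 (by rw [hαn]; omega) (Equiv.swap (0 : Fin 2) 1)]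
    exact Finset.sum_congr rfl fun g _ => (cyc_swap g).symm
  have hle : K.card * (p - 1) ≤ Nat.card G := by
    rw [← hsum, ← smul_eq_mul, ← Finset.sum_const, ← Finset.sum_congr rfl htwo]
    exact Finset.sum_le_sum_of_subset (Finset.subset_univ _)
  have hKpos : 0 < K.card := Finset.card_pos.2 ⟨t, by rw [hK, Finset.mem_filter]; exact ⟨Finset.mem_univ _, IsConj.refl t⟩⟩
  have hCeq : Nat.card C = p - 1 := by
    refine le_antisymm hCle (Nat.le_of_mul_le_mul_left ?_ hKpos)
    rwa [hKcard]
  have he : 2 * Nat.card E = p - 1 := by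
    refine le_antisymm (two_mul_card_le h) ?_
    rw [← hCeq, ← h.card_norm]
    exact Subgroup.card_le_of_le (centralizer_le h htE ht1)
  -- every element that swaps two points is conjugate to `t`
  have hswap : ∀ (g : G) (a : α), g • (g • a) = a → g • a ≠ a → IsConj t g := by
    intro g a h1 h1'
    by_contra hne
    have hsplit := Finset.sum_add_sum_compl K fun g => twoN α g
    rw [hsum, Finset.sum_congr rfl htwo, Finset.sum_const, smul_eq_mul] at hsplit
    rw [← hCeq, hKcard] at hsplit
    have h0 : twoN α g = 0 := (Finset.sum_eq_zero_iff.1 (by omega : ∑ g ∈ Kᶜ, twoN α g = 0)) g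
      (by rw [Finset.mem_compl, hK, Finset.mem_filter]; exact fun h2 => hne h2.2)
    rw [twoN, Finite.card_eq_zero_iff] at h0
    exact h0.false ⟨a, h1, h1'⟩
  -- the group is sharply three times transitive
  have hfree : ∀ e₀ : Fin 3 ↪ α, MulAction.stabilizer G e₀ = ⊥ := by
    intro e₀
    obtain ⟨s, hs0, hs1⟩ : ∃ s : G, s • e₀ 0 = e₀ 1 ∧ s • e₀ 1 = e₀ 0 :=
      is_two_pretransitive_iff.1 h2 (e₀.injective.ne (by decide)) (e₀.injective.ne (by decide))
    have h01 : e₀ 0 ≠ e₀ 1 := e₀.injective.ne (by decide)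
    have hinvol : ∀ k : G, k • e₀ 0 = e₀ 0 → k • e₀ 1 = e₀ 1 → (s * k) * (s * k) = 1 := by
      intro k hk0 hk1
      obtain ⟨c, hc⟩ := isConj_iff.1 (hswap (s * k) (e₀ 0)
        (by rw [mul_smul s k (e₀ 0), hk0, hs0, mul_smul, hk1, hs1])
        (by rw [mul_smul, hk0, hs0]; exact h01.symm))
      rw [← hc, show c * t * c⁻¹ * (c * t * c⁻¹) = c * (t * t) * c⁻¹ by group, ht2, mul_one,
        mul_inv_cancel]
    have hss : s * s = 1 := by simpa using hinvol 1 (one_smul _ _) (one_smul _ _)
    have hinv : ∀ k : G, k • e₀ 0 = e₀ 0 → k • e₀ 1 = e₀ 1 → s * k * s = k⁻¹ := fun k hk0 hk1 =>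
      eq_inv_of_mul_eq_one_left (by
        have h1 := hinvol k hk0 hk1
        rw [mul_assoc (s * k) s k]; exact h1)
    rw [Subgroup.eq_bot_iff_forall]
    intro k hk
    rw [MulAction.mem_stabilizer_iff] at hk
    have hkd : ∀ j, k • e₀ j = e₀ j := fun j => congrArg (fun f : Fin 3 ↪ α => f j) hk
    refine Subtype.ext (Equiv.ext fun x => ?_)
    show k • x = x
    by_cases hx0 : x = e₀ 0
    · rw [hx0, hkd]
    by_cases hx1 : x = e₀ 1
    · rw [hx1, hkd]
    obtain ⟨l, hl⟩ := MulAction.exists_smul_eq G e₀ (⟨![e₀ 0, e₀ 1, x], by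
      simp [Function.Injective, Fin.forall_fin_succ, h01, h01.symm, hx0, hx1, Ne.symm hx0,
        Ne.symm hx1]⟩ : Fin 3 ↪ α)
    have hl' : ∀ j, l • e₀ j = ![e₀ 0, e₀ 1, x] j := fun j =>
      congrArg (fun f : Fin 3 ↪ α => f j) hl
    have hl0 : l • e₀ 0 = e₀ 0 := hl' 0
    have hl1 : l • e₀ 1 = e₀ 1 := hl' 1
    have hcomm : k * l = l * k := by
      have hk' := hinv k (hkd 0) (hkd 1)
      have hl'' := hinv l hl0 hl1
      have hkl := hinv (k * l) (by rw [mul_smul, hl0, hkd]) (by rw [mul_smul, hl1, hkd])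
      rw [mul_inv_rev, ← hk', ← hl''] at hkl
      have h1 : s * (k * l) * s = s * (l * k) * s := by
        rw [hkl]
        calc s * l * s * (s * k * s) = s * l * (s * s) * k * s := by simp only [mul_assoc]
          _ = s * (l * k) * s := by rw [hss, mul_one]; simp only [mul_assoc]
      exact mul_left_cancel (mul_right_cancel h1)
    have hlx : l • e₀ 2 = x := hl' 2
    rw [← hlx, ← mul_smul, hcomm, mul_smul, hkd 2]
  have hcardG : Nat.card G = p * (p - 1) * (p - 2) := by
    obtain ⟨e₀⟩ : Nonempty (Fin 3 ↪ α) :=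
      Function.Embedding.nonempty_of_card_le (by rw [Fintype.card_fin, h.card_eq]; omega)
    have := h3
    rw [← (MulAction.stabilizer G e₀).index_mul_card,
      @index_stabilizer_of_transitive G (Fin 3 ↪ α) _ _ e₀ h3, hfree,
      Subgroup.card_bot, mul_one, Nat.card_eq_fintype_card, Fintype.card_embedding_eq,
      Fintype.card_fin, h.card_eq]
    simp only [Nat.descFactorial_succ, Nat.descFactorial_zero]
    rw [Nat.sub_zero, mul_one]
    ring
  have hidx : (Subgroup.normalizer ((P : Subgroup G) : Set G)).index = 2 * (p - 2) := by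
    have h1 := (Subgroup.normalizer ((P : Subgroup G) : Set G)).card_mul_index
    rw [hN, hcardG, ← he] at h1
    refine Nat.eq_of_mul_eq_mul_left (Nat.mul_pos hp.pos he0) (h1.trans ?_)
    ring
  have hmod := card_sylow_modEq_one p G
  rw [P.card_eq_index_normalizer] at hmod
  change (Subgroup.normalizer ((P : Subgroup G) : Set G)).index ≡ 1 [MOD p] at hmod
  rw [hidx] at hmod
  have hd : p ∣ 2 * (p - 2) - 1 := (Nat.modEq_iff_dvd' (by omega)).1 hmod.symm
  have hd5 : p ∣ 5 := by
    have h1 : p ∣ 2 * p := dvd_mul_left p 2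
    have h2 := Nat.dvd_sub h1 hd
    rwa [show 2 * p - (2 * (p - 2) - 1) = 5 by omega] at h2
  have hp5 : p = 5 := (Nat.prime_dvd_prime_iff_eq hp (by norm_num)).1 hd5
  subst hp5
  exact ⟨rfl, by rw [hcardG], by omega⟩

end CfsgLib.Perm.UniqueDegreeP
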