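import Cfsg.Agent.Lib.Perm.UniqueDegreeP.Stabilizer
import Cfsg.Agent.Lib.Perm.PrimeProjective
import Cfsg.Agent.S0495

/-!
# Transitive groups of prime degree with one character of that degree are `PSL(2, p)`
-/

set_option autoImplicit false

namespace CfsgLib.Perm.UniqueDegreeP

variable {α : Type*} [Fintype α] [DecidableEq α] {p : ℕ} [Fact p.Prime]
variable {G : Subgroup (Equiv.Perm α)} {P : Sylow p G} {E : Subgroup G}

theorem good_five : PrimeProjective.good 5 2 2 = true := by decide +kernel
theorem good_eleven : PrimeProjective.good 11 5 2 = true := by decide +kernel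

theorem main (h : Hyp G P E) : (p = 5 ∨ p = 7 ∨ p = 11) ∧
    ∃ (F : Type) (_ : Field F) (_ : Fintype F), Fintype.card F = p ∧
      Nonempty (G ≃* Matrix.ProjectiveSpecialLinearGroup (Fin 2) F) := by
  have := isSimpleGroup h
  rcases Nat.even_or_odd (Nat.card E) with he | he
  · obtain ⟨rfl, hG, hE⟩ := even_case h he
    have hn : Nat.card (Sylow 5 G) = 5 + 1 := by
      have h1 := (Subgroup.normalizer ((P : Subgroup G) : Set G)).card_mul_index
      rw [card_normalizer h, hG, hE] at h1
      have h2 : Nat.card (Sylow 5 G) =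
          (Subgroup.normalizer ((P : Subgroup G) : Set G)).index := P.card_eq_index_normalizer
      omega
    exact ⟨Or.inl rfl, ZMod 5, inferInstance, inferInstance, ZMod.card 5,
      PrimeProjective.exists_iso (d := 2) (by norm_num) rfl (by rw [hG]) hn (ν := 2) (by decide)
        (by decide) good_five (ZMod.card 5)⟩
  · rcases card_cases h he with ⟨rfl, hG, hn⟩ | ⟨rfl, hG, hn⟩
    · exact ⟨Or.inr (Or.inl rfl), ZMod 7, inferInstance, inferInstance, ZMod.card 7,
        Cfsg.Agent.S0495.result hG (ZMod.card 7)⟩
    · exact ⟨Or.inr (Or.inr rfl), ZMod 11, inferInstance, inferInstance, ZMod.card 11,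
        PrimeProjective.exists_iso (d := 5) (by norm_num) rfl (by rw [hG]) hn (ν := 2) (by decide)
          (by decide) good_eleven (ZMod.card 11)⟩

end CfsgLib.Perm.UniqueDegreeP
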