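import Cfsg.Agent.Lib.Perm.UniqueDegreeP.Seed
import Cfsg.Agent.Lib.Perm.UniqueDegreeP.EvenCase
import Cfsg.Agent.S0674
import Mathlib.LinearAlgebra.Dual.Lemmas
import Mathlib.LinearAlgebra.Isomorphisms

/-!
# The case of a complement of odd order: a representation of degree three

The vector of `Seed.lean` gives a `G`-map from the sum-zero functions on the points with kernel the
constants; the quotient of the representation of degree `p + 1` by its image has dimension three.
-/

set_option autoImplicit false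

namespace CfsgLib.Perm.UniqueDegreeP

open Cfsg CfsgLib.Perm.PrimeDegree
open Weight (opZ opJ up finrank_map_add)
open scoped _root_.Classical

universe w

variable {α : Type*} [Fintype α] [DecidableEq α] {p : ℕ} [Fact p.Prime]
variable {G : Subgroup (Equiv.Perm α)} {P : Sylow p G} {E : Subgroup G}
variable {k : Type w} [Field k] [CharP k p]

theorem trace_id_eq {V : Type*} [AddCommGroup V] [Module k V] [FiniteDimensional k V] :
    LinearMap.trace k V LinearMap.id = (Module.finrank k V : k) :=
  LinearMap.trace_id k V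

theorem trace_eq_ker_add {V W : Type*} [AddCommGroup V] [Module k V] [FiniteDimensional k V]
    [AddCommGroup W] [Module k W] [FiniteDimensional k W] (f : Module.End k V) (f' : Module.End k W)
    (L : V →ₗ[k] W) (hL : Function.Surjective L) (hc : L ∘ₗ f = f' ∘ₗ L)
    (hker : ∀ x ∈ LinearMap.ker L, f x ∈ LinearMap.ker L) :
    LinearMap.trace k V f =
      LinearMap.trace k (LinearMap.ker L) (f.restrict hker) + LinearMap.trace k W f' := by
  obtain ⟨s, hs⟩ := LinearMap.exists_rightInverse_of_surjective L (LinearMap.range_eq_top.2 hL)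
  let q : V →ₗ[k] LinearMap.ker L := LinearMap.codRestrict _ (LinearMap.id - s ∘ₗ L) fun x => by
    have := LinearMap.congr_fun hs (L x)
    simp only [LinearMap.mem_ker, LinearMap.sub_apply, LinearMap.id_apply, LinearMap.comp_apply,
      map_sub] at this ⊢
    rw [this, sub_self]
  have hid : f = (f ∘ₗ (LinearMap.ker L).subtype) ∘ₗ q + (f ∘ₗ s) ∘ₗ L := LinearMap.ext fun x => by
    simp [q]
  have hqs : q ∘ₗ (f ∘ₗ (LinearMap.ker L).subtype) = f.restrict hker := LinearMap.ext fun x => by
    refine Subtype.ext ?_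
    have h0 : L (f x) = 0 := hker x x.2
    simp [q, h0]
  conv_lhs => rw [hid]
  rw [map_add, LinearMap.trace_comp_comm' q, hqs, LinearMap.trace_comp_comm' L]
  congr 1
  rw [← LinearMap.comp_assoc, hc, LinearMap.comp_assoc, hs, LinearMap.comp_id]

theorem trace_permRep (g : G) :
    LinearMap.trace k (α → k) (permRep k G α g) =
      ((Finset.univ.filter fun x : α => g • x = x).card : k) := by
  rw [LinearMap.trace_eq_matrix_trace k (Pi.basisFun k α), Matrix.trace]
  simp only [Matrix.diag_apply, LinearMap.toMatrix_apply, Pi.basisFun_repr, Pi.basisFun_apply]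
  rw [← Finset.sum_boole]
  refine Finset.sum_congr rfl fun x _ => ?_
  show (Pi.single x (1 : k) : α → k) (g⁻¹ • x) = _
  rw [Pi.single_apply]
  exact if_congr (by rw [inv_smul_eq_iff, eq_comm]) rfl rfl

/-- The sum functional. -/
noncomputable def sumFun (k : Type w) [Field k] (α : Type*) [Fintype α] : (α → k) →ₗ[k] k :=
  ∑ x : α, LinearMap.proj x

theorem sumFun_apply (f : α → k) : sumFun k α f = ∑ x, f x := by
  simp [sumFun, LinearMap.sum_apply]

theorem ker_sumFun : LinearMap.ker (sumFun k α) = (permSumZero k G α).toSubmodule := by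
  ext f
  rw [LinearMap.mem_ker, sumFun_apply]
  rfl

theorem sumFun_surjective (h : Hyp G P E) : Function.Surjective (sumFun k α) := fun c => by
  obtain ⟨a⟩ : Nonempty α := Fintype.card_pos_iff.1 (by rw [h.card_eq]; exact (Fact.out : p.Prime).pos)
  exact ⟨Pi.single a c, by rw [sumFun_apply]; simp⟩

theorem finrank_sumZero (h : Hyp G P E) :
    Module.finrank k (permSumZero k G α).toSubmodule = p - 1 := by
  have h1 := LinearMap.finrank_range_add_finrank_ker (sumFun k α)
  rw [LinearMap.range_eq_top.2 (sumFun_surjective h), finrank_top, Module.finrank_self,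
    Module.finrank_fintype_fun_eq_card, h.card_eq, ker_sumFun (G := G)] at h1
  omega

/-- Combinations of the translates of a vector. -/
noncomputable def orb {W : Type*} [AddCommGroup W] [Module k W] (F : Frame G P E)
    (π : Representation k G W) (x : W) : (ZMod p → k) →ₗ[k] W :=
  ∑ a : ZMod p, (LinearMap.proj a).smulRight (π (F.σ ^ a.val) x)

theorem orb_apply {W : Type*} [AddCommGroup W] [Module k W] (F : Frame G P E)
    (π : Representation k G W) (x : W) (c : ZMod p → k) :
    orb F π x c = ∑ a : ZMod p, c a • π (F.σ ^ a.val) x := by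
  simp [orb, LinearMap.sum_apply]

theorem orb_single {W : Type*} [AddCommGroup W] [Module k W] (F : Frame G P E)
    (π : Representation k G W) (x : W) : orb F π x (Pi.single 0 1) = x := by
  rw [orb_apply, Finset.sum_eq_single 0]
  · simp
  · intro b _ hb
    simp [hb]
  · simp

theorem orb_shift (h : Hyp G P E) {W : Type*} [AddCommGroup W] [Module k W] (F : Frame G P E)
    (π : Representation k G W) (x : W) (c : ZMod p → k) :
    π F.σ (orb F π x c) = orb F π x (fun a => c (a - 1)) := by
  rw [orb_apply, orb_apply, map_sum]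
  refine Fintype.sum_equiv (Equiv.addRight 1) _ _ fun a => ?_
  rw [map_smul, Equiv.coe_addRight, add_sub_cancel_right, ← Module.End.mul_apply, ← map_mul,
    ← pow_succ', show F.σ ^ (a + 1).val = F.σ ^ (a.val + 1) from ?_]
  rw [pow_eq_pow_iff_modEq, F.coe_orderOf_σ h, ← ZMod.natCast_eq_natCast_iff]
  simp

theorem orb_scale (h : Hyp G P E) {W : Type*} [AddCommGroup W] [Module k W] (F : Frame G P E)
    (π : Representation k G W) {x : W} (hx : π F.y x = ι k F.r • x) (c : ZMod p → k) :
    π F.y (orb F π x c) = orb F π x (fun a => ι k F.r * c (F.r⁻¹ * a)) := by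
  rw [orb_apply, orb_apply, map_sum]
  refine Fintype.sum_equiv (Equiv.mulLeft₀ F.r F.r_ne_zero) _ _ fun a => ?_
  have hmv : F.y * F.σ ^ a.val = F.σ ^ (F.r * a).val * F.y := by
    refine ext_coords F fun i => ?_
    simp only [mul_smul, F.smul_σ_pow, F.smul_y, ZMod.natCast_zmod_val, mul_add]
  rw [map_smul, show Equiv.mulLeft₀ F.r F.r_ne_zero a = F.r * a from rfl,
    inv_mul_cancel_left₀ F.r_ne_zero, ← Module.End.mul_apply, ← map_mul, hmv, map_mul,
    Module.End.mul_apply, hx, map_smul, smul_smul, mul_comm]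

/-- The inverse of the coordinate, a vector of weight `r`. -/
noncomputable def coordInv (F : Frame G P E) : α → k := fun x => ι k (F.e.symm x)⁻¹

theorem coordInv_mem (h : Hyp G P E) (F : Frame G P E) :
    coordInv (k := k) F ∈ (permSumZero k G α).toSubmodule := by
  show ∑ x, ι k (F.e.symm x)⁻¹ = 0
  rw [← map_sum, Equiv.sum_comp F.e.symm (fun i => i⁻¹),
    Weight.sum_inv_eq_zero (by have := five_le h; omega), map_zero]

theorem permRep_y_coordInv (F : Frame G P E) :
    permRep k G α F.y (coordInv F) = ι k F.r • coordInv F := by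
  funext x
  obtain ⟨i, rfl⟩ := F.e.surjective x
  show ι k (F.e.symm (F.y⁻¹ • F.e i))⁻¹ = ι k F.r * ι k (F.e.symm (F.e i))⁻¹
  have h1 : F.y⁻¹ • F.e i = F.e (F.r⁻¹ * i) := by
    rw [inv_smul_eq_iff, F.smul_y, mul_inv_cancel_left₀ F.r_ne_zero]
  rw [h1, Equiv.symm_apply_apply, Equiv.symm_apply_apply, mul_inv, inv_inv, map_mul]

theorem permRep_pow_coordInv (F : Frame G P E) (a j : ZMod p) :
    permRep k G α (F.σ ^ a.val) (coordInv F) (F.e j) = ι k (j - a)⁻¹ := by
  show ι k (F.e.symm ((F.σ ^ a.val)⁻¹ • F.e j))⁻¹ = _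
  have h1 : (F.σ ^ a.val)⁻¹ • F.e j = F.e (j - a) := by
    rw [inv_smul_eq_iff, F.smul_σ_pow, ZMod.natCast_zmod_val, sub_add_cancel]
  rw [h1, Equiv.symm_apply_apply]

theorem orb_coordInv_one (h : Hyp G P E) (F : Frame G P E) :
    orb F (permRep k G α) (coordInv F) (fun _ => 1) = 0 := by
  funext x
  obtain ⟨j, rfl⟩ := F.e.surjective x
  rw [orb_apply, Finset.sum_apply]
  simp only [one_smul, permRep_pow_coordInv, Pi.zero_apply]
  rw [← map_sum, Fintype.sum_equiv (Equiv.subLeft j) (fun a => (j - a)⁻¹) (fun i => i⁻¹)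
    (fun a => rfl), Weight.sum_inv_eq_zero (by have := five_le h; omega), map_zero]

theorem orb_coordInv_id (h : Hyp G P E) (F : Frame G P E) :
    orb F (permRep k G α) (coordInv F) (fun a => ι k a) = fun _ => 1 := by
  funext x
  obtain ⟨j, rfl⟩ := F.e.surjective x
  rw [orb_apply, Finset.sum_apply]
  simp only [Pi.smul_apply, permRep_pow_coordInv, smul_eq_mul, ← map_mul]
  rw [← map_sum, Fintype.sum_equiv (Equiv.subLeft j) (fun a => a * (j - a)⁻¹)
    (fun i => (j - i) * i⁻¹) (fun a => by rw [Equiv.subLeft_apply, sub_sub_cancel])]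
  simp only [sub_mul, Finset.sum_sub_distrib, ← Finset.mul_sum,
    Weight.sum_inv_eq_zero (show 3 ≤ p by have := five_le h; omega), Weight.sum_mul_inv, mul_zero,
    zero_sub, neg_neg, map_one]

theorem ker_orb_coordInv (h : Hyp G P E) (F : Frame G P E) {c : ZMod p → k}
    (hc : orb F (permRep k G α) (coordInv F) c = 0) : ∃ b : k, c = fun _ => b := by
  obtain ⟨r, hr, hW⟩ := eq_polyFun_of_shift_invariant k
    (LinearMap.ker (orb F (permRep k G α) (coordInv F))) (fun f hf => by
      rw [LinearMap.mem_ker] at hf ⊢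
      rw [← orb_shift h, hf, map_zero])
  have hc' : c ∈ polyFun (p := p) k r := hW ▸ hc
  rw [mem_polyFun] at hc'
  obtain ⟨Q, hQ, rfl⟩ := hc'
  rcases le_or_gt r 1 with h1 | h1
  · refine ⟨Q.coeff 0, funext fun a => ?_⟩
    have h2 : Q.degree < (1 : ℕ) := lt_of_lt_of_le hQ (by exact_mod_cast h1)
    have h0 : Q.degree ≤ 0 := Order.lt_succ_iff.1 (by exact_mod_cast h2)
    rw [evalFun_apply, Polynomial.eq_C_of_degree_le_zero h0]
    simp
  · exfalso
    have h2 : (fun a => ι k a) ∈ LinearMap.ker (orb F (permRep k G α) (coordInv F)) := by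
      rw [hW, mem_polyFun]
      exact ⟨Polynomial.X, by rw [Polynomial.degree_X]; exact_mod_cast h1,
        funext fun j => by simp [evalFun_apply]⟩
    rw [LinearMap.mem_ker, orb_coordInv_id h] at h2
    exact one_ne_zero (congrFun h2 (F.e 0))

theorem range_orb_coordInv (h : Hyp G P E) (F : Frame G P E) :
    LinearMap.range (orb F (permRep k G α) (coordInv F)) = (permSumZero k G α).toSubmodule := by
  refine Submodule.eq_of_le_of_finrank_le ?_ ?_
  · rintro _ ⟨c, rfl⟩
    rw [orb_apply]
    exact Submodule.sum_mem _ fun a _ => Submodule.smul_mem _ _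
      ((permSumZero k G α).apply_mem_toSubmodule _ (coordInv_mem h F))
  · have h1 := LinearMap.finrank_range_add_finrank_ker (orb F (permRep k G α) (coordInv (k := k) F))
    have h2 : Module.finrank k (LinearMap.ker (orb F (permRep k G α) (coordInv (k := k) F))) ≤ 1 := by
      refine le_trans (Submodule.finrank_mono (t := Submodule.span k {fun _ => (1 : k)})
        fun c hc => ?_) (finrank_span_le_card ({fun _ => (1 : k)} : Set (ZMod p → k)) |>.trans
          (by simp))
      obtain ⟨b, rfl⟩ := ker_orb_coordInv h F hc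
      exact Submodule.mem_span_singleton.2 ⟨b, funext fun _ => by simp⟩
    rw [Module.finrank_fintype_fun_eq_card, ZMod.card] at h1
    rw [finrank_sumZero h]
    omega

section Quot

variable {m : ℕ} (F : Frame G P E) {R : G →* Matrix (Fin m) (Fin m) k}

/-- The degree three representation: a quotient of the representation of degree `p + 1`. -/
theorem exists_three (h : Hyp G P E) (hodd : Odd (Nat.card E)) (hR : Traces F R) {v : Fin m → k}
    (hv : matRep R F.y v = ι k F.r • v) (hvZ : opZ p (matRep R F.σ) v = 0)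
    (hvU : v ∉ LinearMap.range (matRep R F.σ - 1)) :
    ∃ (V : Type w) (_ : AddCommGroup V) (_ : Module k V) (_ : FiniteDimensional k V)
      (ρ : Representation k G V), Module.finrank k V = 3 ∧
      (∀ g, LinearMap.trace k V (ρ g⁻¹) = LinearMap.trace k V (ρ g)) ∧
      LinearMap.trace k V (ρ F.y) = 1 + ι k F.r + (ι k F.r)⁻¹ := by
  have hp5 := five_le h
  set π := permRep k G α with hπ
  set ρR := matRep R with hρR
  set L := orb F π (coordInv (k := k) F) with hLdef
  set Φ := orb F ρR v with hΦdef
  set S := (permSumZero k G α).toSubmodule with hS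
  have hrange : LinearMap.range L = S := range_orb_coordInv h F
  have hΦid : Φ (fun a => ι k a) = 0 := by
    rw [hΦdef, orb_apply]
    simpa [opZ, Weight.up, LinearMap.sum_apply, map_pow] using hvZ
  have hΦone : Φ (fun _ => 1) = 0 := by
    have h1 : opJ p (ρR F.σ) v = 0 := by
      rw [← Weight.opD_mul_opZ (opU_pow F R h) (by omega), Module.End.mul_apply, hvZ, map_zero]
    rw [hΦdef, orb_apply]
    simpa [opJ, Weight.up, LinearMap.sum_apply, map_pow] using h1
  -- the map `f`
  have hle : LinearMap.ker L ≤ LinearMap.ker Φ := fun c hc => by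
    obtain ⟨b, rfl⟩ := ker_orb_coordInv h F hc
    rw [LinearMap.mem_ker, show (fun _ : ZMod p => b) = b • (fun _ : ZMod p => (1 : k)) from
      funext fun _ => by simp, map_smul, hΦone, smul_zero]
  obtain ⟨f, hf⟩ := LinearMap.exists_extend
    ((LinearMap.ker L).liftQ Φ hle ∘ₗ L.quotKerEquivRange.symm.toLinearMap)
  have hfL : ∀ c, f (L c) = Φ c := fun c => by
    have := LinearMap.congr_fun hf ⟨L c, LinearMap.mem_range_self L c⟩
    rw [LinearMap.comp_apply, Submodule.subtype_apply, LinearMap.comp_apply] at this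
    rw [this]
    simp [LinearMap.quotKerEquivRange_symm_apply_image]
  have hfh0 : f (coordInv F) = v := by
    rw [← orb_single F π (coordInv (k := k) F), ← hLdef, hfL, hΦdef, orb_single]
  have hfone : f (fun _ => 1) = 0 := by
    rw [← orb_coordInv_id (k := k) h F, ← hπ, ← hLdef, hfL, hΦid]
  -- equivariance for the normalizer
  set N := Subgroup.normalizer ((P : Subgroup G) : Set G) with hN
  have hσN : ∀ s ∈ S, f (π F.σ s) = ρR F.σ (f s) := fun s hs => by
    obtain ⟨c, rfl⟩ := (hrange.ge hs : s ∈ LinearMap.range L)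
    rw [hLdef, orb_shift h, ← hLdef, hfL, hfL, hΦdef, orb_shift h]
  have hyN : ∀ s ∈ S, f (π F.y s) = ρR F.y (f s) := fun s hs => by
    obtain ⟨c, rfl⟩ := (hrange.ge hs : s ∈ LinearMap.range L)
    rw [hLdef, orb_scale h F π (permRep_y_coordInv F), ← hLdef, hfL, hfL, hΦdef,
      orb_scale h F ρR hv]
  have hSmem : ∀ g : G, ∀ s ∈ S, π g s ∈ S := fun g s hs =>
    (permSumZero k G α).apply_mem_toSubmodule g hs
  let M : Submonoid G :=
    { carrier := {n | ∀ s ∈ S, f (π n s) = ρR n (f s)}
      mul_mem' := fun {a b} ha hb s hs => by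
        rw [map_mul, map_mul, Module.End.mul_apply, Module.End.mul_apply, ha _ (hSmem b s hs),
          hb s hs]
      one_mem' := fun s _ => by simp }
  have hpow : ∀ x : G, x ∈ M → ∀ z ∈ Subgroup.zpowers x, z ∈ M := fun x hx z hz => by
    rw [← mem_powers_iff_mem_zpowers] at hz
    obtain ⟨n, rfl⟩ := (Submonoid.mem_powers_iff _ _).1 hz
    exact pow_mem hx n
  have hNM : ∀ n ∈ N, n ∈ M := by
    intro n hn
    have hn' : n ∈ (P : Subgroup G) ⊔ E := h.sup_eq.ge hn
    rw [← SetLike.mem_coe, Subgroup.coe_mul_of_right_le_normalizer_left _ _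
      (le_sup_right.trans h.sup_eq.le)] at hn'
    obtain ⟨a, ha, b, hb, rfl⟩ := hn'
    exact M.mul_mem (hpow F.σ hσN a (F.zpowers_σ.ge ha)) (hpow F.y hyN b (F.zpowers_y.ge hb))
  -- the induced `G`-map
  have : Fintype G := Fintype.ofFinite G
  have : Fintype (G ⧸ N) := Fintype.ofFinite _
  set term : G → (α → k) → (Fin m → k) := fun x s => ρR x (f (π x⁻¹ s)) with hterm
  have hcoset : ∀ x, ∀ n ∈ N, ∀ s ∈ S, term (x * n) s = term x s := by
    intro x n hn s hs
    have h1 := hNM n hn (π n⁻¹ (π x⁻¹ s)) (hSmem _ _ (hSmem _ _ hs))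
    rw [← Module.End.mul_apply, ← map_mul, mul_inv_cancel, map_one, Module.End.one_apply] at h1
    simp only [hterm]
    rw [mul_inv_rev, map_mul ρR, map_mul π, Module.End.mul_apply, Module.End.mul_apply, ← h1]
  have hout : ∀ (x : G), ∀ s ∈ S, term ((x : G ⧸ N).out) s = term x s := by
    intro x s hs
    obtain ⟨n, hn⟩ := QuotientGroup.mk_out_eq_mul N x
    rw [hn, hcoset x n n.2 s hs]
  set T : (α → k) →ₗ[k] (Fin m → k) :=
    ∑ q : G ⧸ N, ρR q.out ∘ₗ f ∘ₗ π q.out⁻¹ with hT
  have hTapply : ∀ s, T s = ∑ q : G ⧸ N, term q.out s := fun s => by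
    simp [hT, hterm, LinearMap.sum_apply]
  have hTG : ∀ g, ∀ s ∈ S, T (π g s) = ρR g (T s) := by
    intro g s hs
    rw [hTapply, hTapply, map_sum]
    refine (Fintype.sum_equiv (MulAction.toPerm g : Equiv.Perm (G ⧸ N)) _ _ fun q => ?_).symm
    rw [MulAction.toPerm_apply]
    conv_rhs => rw [← QuotientGroup.out_eq' q, MulAction.Quotient.smul_coe, smul_eq_mul,
      hout (g * q.out) _ (hSmem g s hs)]
    simp only [hterm, mul_inv_rev, map_mul, Module.End.mul_apply]
    rw [← Module.End.mul_apply (π g⁻¹), ← map_mul π g⁻¹ g, inv_mul_cancel, map_one,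
      Module.End.one_apply]
  -- the functional
  obtain ⟨φ, hφv, hφU⟩ : ∃ φ : (Fin m → k) →ₗ[k] k, φ v ≠ 0 ∧
      ∀ x, φ (ρR F.σ x) = φ x := by
    set K0 := LinearMap.range (ρR F.σ - 1)
    have hne : K0.mkQ v ≠ 0 := fun h0 => hvU ((Submodule.Quotient.mk_eq_zero K0).1 h0)
    obtain ⟨g', hg'⟩ := not_forall.1 (mt (Module.forall_dual_apply_eq_zero_iff k (K0.mkQ v)).1 hne)
    refine ⟨g'.comp K0.mkQ, hg', fun x => ?_⟩
    rw [← sub_eq_zero, ← map_sub, LinearMap.comp_apply]
    have h1 : K0.mkQ (ρR F.σ x - x) = 0 :=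
      (Submodule.Quotient.mk_eq_zero K0).2 ⟨x, by simp⟩
    rw [h1, map_zero]
  have hφpow : ∀ (n : ℕ) x, φ (ρR (F.σ ^ n) x) = φ x := by
    intro n
    induction n with
    | zero => simp
    | succ n ih => intro x; rw [pow_succ', map_mul, Module.End.mul_apply, hφU, ih]
  -- the only term surviving `φ` on `coordInv`
  have hh0 : coordInv (k := k) F ∈ S := coordInv_mem h F
  have hfree : ∀ (q : G ⧸ N) (a : ZMod p), q ≠ ((1 : G) : G ⧸ N) → (F.σ ^ a.val) • q = q → a = 0 := by
    intro q a hq ha
    by_contra ha0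
    have hσq : F.σ • q = q := by
      have h1 : F.σ = (F.σ ^ a.val) ^ (a⁻¹).val := by
        rw [← pow_mul]
        nth_rw 1 [← pow_one F.σ]
        rw [pow_eq_pow_iff_modEq, F.coe_orderOf_σ h, ← ZMod.natCast_eq_natCast_iff]
        simp [mul_inv_cancel₀ ha0]
      rw [h1]
      exact MulAction.mem_stabilizer_iff.1 (pow_mem (MulAction.mem_stabilizer_iff.2 ha) _)
    have hx : q.out⁻¹ * (F.σ * q.out) ∈ N := by
      rw [← QuotientGroup.eq]
      rw [← QuotientGroup.out_eq' q, MulAction.Quotient.smul_coe, smul_eq_mul] at hσq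
      exact hσq.symm
    rw [← mul_assoc] at hx
    have hxP : q.out⁻¹ * F.σ * q.out ∈ (P : Subgroup G) := by
      have ho : orderOf (q.out⁻¹ * F.σ * q.out) = p := by
        conv_rhs => rw [← F.coe_orderOf_σ h]
        simpa using MulEquiv.orderOf_eq (MulAut.conj q.out⁻¹) F.σ
      have hpg : IsPGroup p (Subgroup.zpowers (q.out⁻¹ * F.σ * q.out)) :=
        IsPGroup.of_card (n := 1) (by rw [Nat.card_zpowers, ho, pow_one])
      exact ((hpg.inf_normalizer_sylow P).le ⟨Subgroup.mem_zpowers _, hx⟩).2
    have hmap : (P : Subgroup G).map (MulAut.conj q.out⁻¹).toMonoidHom = P := by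
      refine Subgroup.eq_of_le_of_card_ge ?_ ?_
      · rw [← F.zpowers_σ, MonoidHom.map_zpowers, Subgroup.zpowers_le, F.zpowers_σ]
        simpa using hxP
      · exact (Nat.card_congr ((P : Subgroup G).equivMapOfInjective _
          (MulAut.conj q.out⁻¹).injective).toEquiv).le
    have hqN : q.out⁻¹ ∈ N := Subgroup.mem_normalizer_iff.2 fun x => by
      conv_rhs => rw [← hmap]
      exact (Subgroup.mem_map_iff_mem (f := (MulAut.conj q.out⁻¹).toMonoidHom)
        (MulAut.conj q.out⁻¹).injective).symm
    exact hq ((QuotientGroup.out_eq' q).symm.trans (QuotientGroup.eq.2 (by simpa using hqN)))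
  have hfix : ∀ a : ZMod p, (F.σ ^ a.val) • (((1 : G) : G ⧸ N)) = ((1 : G) : G ⧸ N) := fun a => by
    rw [MulAction.Quotient.smul_coe, smul_eq_mul, mul_one]
    refine QuotientGroup.eq.2 ?_
    rw [mul_one]
    exact inv_mem (Subgroup.le_normalizer (F.zpowers_σ.le (Subgroup.npow_mem_zpowers F.σ a.val)))
  have hrest : ∑ q ∈ Finset.univ.erase ((1 : G) : G ⧸ N), φ (term q.out (coordInv F)) = 0 := by
    set key : G ⧸ N → Finset (G ⧸ N) :=
      fun q => Finset.univ.image fun a : ZMod p => (F.σ ^ a.val) • q with hkey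
    have hcomp : ∀ (a b : ZMod p), F.σ ^ (a + b).val = F.σ ^ a.val * F.σ ^ b.val := fun a b => by
      rw [← pow_add, pow_eq_pow_iff_modEq, F.coe_orderOf_σ h, ← ZMod.natCast_eq_natCast_iff]
      simp
    have hself : ∀ q, q ∈ key q := fun q =>
      Finset.mem_image.2 ⟨0, Finset.mem_univ _, by simp⟩
    have hkeyeq : ∀ q q', q' ∈ key q → key q' = key q := by
      intro q q' hq'
      obtain ⟨b, -, rfl⟩ := Finset.mem_image.1 hq'
      ext z
      simp only [hkey, Finset.mem_image, Finset.mem_univ, true_and]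
      constructor
      · rintro ⟨a, rfl⟩
        exact ⟨a + b, by rw [hcomp, mul_smul]⟩
      · rintro ⟨a, rfl⟩
        exact ⟨a - b, by rw [← mul_smul, ← hcomp, sub_add_cancel]⟩
    rw [← Finset.sum_fiberwise_of_maps_to (g := key) (fun q hq => Finset.mem_image_of_mem key hq)]
    refine Finset.sum_eq_zero fun c hc => ?_
    obtain ⟨q₀, hq₀, rfl⟩ := Finset.mem_image.1 hc
    have hne : q₀ ≠ ((1 : G) : G ⧸ N) := (Finset.mem_erase.1 hq₀).1
    rw [show (Finset.univ.erase ((1 : G) : G ⧸ N)).filter (fun q => key q = key q₀) = key q₀ from ?_,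
      hkey, Finset.sum_image]
    · have h1 : ∀ a : ZMod p, φ (term ((F.σ ^ a.val) • q₀).out (coordInv F)) =
          φ (ρR q₀.out (f (π q₀.out⁻¹ (π (F.σ ^ a.val)⁻¹ (coordInv F))))) := fun a => by
        conv_lhs => rw [← QuotientGroup.out_eq' q₀, MulAction.Quotient.smul_coe, smul_eq_mul,
          hout _ _ hh0]
        simp only [hterm, mul_inv_rev, map_mul, Module.End.mul_apply, hφpow]
      rw [Finset.sum_congr rfl fun a _ => h1 a, ← map_sum, ← map_sum, ← map_sum, ← map_sum]
      have h2 : ∑ a : ZMod p, π (F.σ ^ a.val)⁻¹ (coordInv F) = 0 := by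
        rw [← orb_coordInv_one (k := k) h F, orb_apply]
        simp only [one_smul]
        refine Fintype.sum_equiv (Equiv.neg (ZMod p)) _ _ fun a => ?_
        show π (F.σ ^ a.val)⁻¹ (coordInv F) = π (F.σ ^ (-a).val) (coordInv F)
        congr 2
        rw [inv_eq_iff_mul_eq_one, ← hcomp, add_neg_cancel, ZMod.val_zero, pow_zero]
      simp only [h2, map_zero]
    · intro a _ b _ hab
      have h2 := hfree q₀ (a - b) hne (smul_left_cancel (F.σ ^ b.val) (by
        rw [← mul_smul, ← hcomp, add_sub_cancel]; exact hab))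
      exact sub_eq_zero.1 h2
    · ext z
      simp only [Finset.mem_filter, Finset.mem_erase, Finset.mem_univ, and_true]
      refine ⟨fun hz => hz.2 ▸ hself z, fun hz => ⟨fun h1 => hne ?_, hkeyeq _ _ hz⟩⟩
      obtain ⟨b, -, hb⟩ := Finset.mem_image.1 hz
      exact smul_left_cancel (F.σ ^ b.val) (hb.trans (h1.trans (hfix b).symm))
  have hTh0 : T (coordInv F) ≠ 0 := by
    intro h0
    apply hφv
    have h1 := congrArg φ h0
    rw [hTapply, map_sum, map_zero, ← Finset.add_sum_erase _ _ (Finset.mem_univ ((1 : G) : G ⧸ N)),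
      hrest, add_zero, hout 1 _ hh0] at h1
    simpa [hterm, hfh0] using h1
  have hTone : T (fun _ => 1) = 0 := by
    rw [hTapply]
    refine Finset.sum_eq_zero fun q _ => ?_
    show ρR q.out (f (fun _ => 1)) = 0
    rw [hfone, map_zero]
  -- the kernel
  have := h.trans
  let K : Subrepresentation (permRep k G α) :=
    { toSubmodule := LinearMap.ker T ⊓ S
      apply_mem_toSubmodule := fun g s hs => ⟨by
          show T (π g s) = 0
          rw [hTG g s hs.2, hs.1, map_zero], hSmem g s hs.2⟩ }
  have hconstS : (permConstants k G α).toSubmodule ≤ S := by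
    rw [permConstants, Submodule.span_le, Set.singleton_subset_iff]
    show ∑ x : α, (1 : k) = 0
    rw [Finset.sum_const, Finset.card_univ, h.card_eq, nsmul_eq_mul, CharP.cast_eq_zero, zero_mul]
  have hKeq : LinearMap.ker T ⊓ S = (permConstants k G α).toSubmodule := by
    rcases Cfsg.Agent.S0674.result h.card_eq G (insoluble h) (K := k) K
      (le_inf ((Submodule.span_singleton_le_iff_mem _ _).2 hTone) hconstS) inf_le_right with h1 | h1
    · exact congrArg Subrepresentation.toSubmodule h1
    · exact absurd (((congrArg Subrepresentation.toSubmodule h1).ge hh0).1) hTh0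
  have hconst1 : Module.finrank k (permConstants k G α).toSubmodule = 1 :=
    finrank_span_singleton fun h0 => one_ne_zero (congrFun h0 (F.e 0))
  set R' : Submodule k (Fin m → k) := S.map T with hR'
  have hR'mem : ∀ g, ∀ x ∈ R', ρR g x ∈ R' := by
    rintro g _ ⟨s, hs, rfl⟩
    exact ⟨π g s, hSmem g s hs, hTG g s hs⟩
  have hR'dim : Module.finrank k R' = p - 2 := by
    have h1 := finrank_map_add T S
    rw [hKeq, hconst1, finrank_sumZero h, ← hR'] at h1
    omega
  let ρQ : Representation k G ((Fin m → k) ⧸ R') :=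
    { toFun := fun g => R'.mapQ R' (ρR g) (hR'mem g)
      map_one' := Submodule.linearMap_qext _ (LinearMap.ext fun x => by simp)
      map_mul' := fun a b => Submodule.linearMap_qext _ (LinearMap.ext fun x => by simp) }
  -- the trace of the image
  have htr : ∀ g : G, (R g).trace = ((Finset.univ.filter fun x : α => g • x = x).card : k) - 2 +
      LinearMap.trace k _ (ρQ g) := by
    intro g
    have hkerQ : ∀ x ∈ LinearMap.ker R'.mkQ, ρR g x ∈ LinearMap.ker R'.mkQ := fun x hx => by
      rw [Submodule.ker_mkQ] at hx ⊢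
      exact hR'mem g x hx
    have h1 := trace_eq_ker_add (ρR g) (ρQ g) R'.mkQ R'.mkQ_surjective
      (LinearMap.ext fun x => rfl) hkerQ
    rw [← trace_matRep R g, ← hρR, h1]
    congr 1
    have hkS : ∀ x ∈ LinearMap.ker (sumFun k α), π g x ∈ LinearMap.ker (sumFun k α) := fun x hx => by
      rw [ker_sumFun (G := G)] at hx ⊢
      exact hSmem g x hx
    have h2 := trace_eq_ker_add (π g) LinearMap.id (sumFun k α) (sumFun_surjective h)
      (LinearMap.ext fun x => by
        simp only [LinearMap.comp_apply, LinearMap.id_apply, sumFun_apply]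
        exact Equiv.sum_comp (MulAction.toPerm g⁻¹) x) hkS
    rw [show LinearMap.trace k (α → k) (π g) = _ from trace_permRep g, LinearMap.trace_id, Module.finrank_self, Nat.cast_one] at h2
    let T' : LinearMap.ker (sumFun k α) →ₗ[k] R' :=
      LinearMap.codRestrict R' (T ∘ₗ (LinearMap.ker (sumFun k α)).subtype) fun x =>
        ⟨x, (ker_sumFun (G := G)).le x.2, rfl⟩
    have hT's : Function.Surjective T' := by
      rintro ⟨_, s, hs, rfl⟩
      exact ⟨⟨s, (ker_sumFun (G := G)).ge hs⟩, rfl⟩
    have hcomm : T' ∘ₗ (π g).restrict hkS = (ρR g).restrict (hR'mem g) ∘ₗ T' :=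
      LinearMap.ext fun x => Subtype.ext (hTG g x ((ker_sumFun (G := G)).le x.2))
    have hk' : ∀ x ∈ LinearMap.ker T', (π g).restrict hkS x ∈ LinearMap.ker T' := fun x hx => by
      rw [LinearMap.mem_ker] at hx ⊢
      have := LinearMap.congr_fun hcomm x
      rw [LinearMap.comp_apply, LinearMap.comp_apply, hx, map_zero] at this
      exact this
    have h3 := trace_eq_ker_add ((π g).restrict hkS) ((ρR g).restrict (hR'mem g)) T' hT's hcomm hk'
    have hmem : ∀ x : LinearMap.ker T',
        ((x : LinearMap.ker (sumFun k α)) : α → k) ∈ (permConstants k G α).toSubmodule := fun x => by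
      rw [← hKeq]
      exact ⟨congrArg Subtype.val x.2, (ker_sumFun (G := G)).le x.1.2⟩
    have hid : ((π g).restrict hkS).restrict hk' = LinearMap.id := LinearMap.ext fun x => by
      obtain ⟨b, hb⟩ := Submodule.mem_span_singleton.1 (hmem x)
      refine Subtype.ext (Subtype.ext ?_)
      show π g (x : α → k) = (x : α → k)
      rw [← hb, map_smul]
      rfl
    have hone : Module.finrank k (LinearMap.ker T') = 1 := by
      have e1 := LinearMap.finrank_range_add_finrank_ker T'
      have e2 : Module.finrank k (LinearMap.ker (sumFun k α)) = p - 1 := by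
        rw [ker_sumFun (G := G), finrank_sumZero h]
      rw [LinearMap.range_eq_top.2 hT's, finrank_top, hR'dim, e2] at e1
      omega
    have h5 : LinearMap.trace k _ (((π g).restrict hkS).restrict hk') = 1 := by
      rw [hid]
      exact (trace_id_eq (k := k) (V := LinearMap.ker T')).trans (by rw [hone, Nat.cast_one])
    rw [h5] at h3
    have h4 : LinearMap.trace k _ ((ρR g).restrict hkerQ) =
        LinearMap.trace k _ ((ρR g).restrict (hR'mem g)) := by
      have hE : LinearMap.ker R'.mkQ = R' := R'.ker_mkQ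
      rw [← LinearMap.trace_conj' ((ρR g).restrict hkerQ) (LinearEquiv.ofEq _ _ hE)]
      congr 1
    rw [h4]
    linear_combination -h2 - h3
  refine ⟨(Fin m → k) ⧸ R', inferInstance, inferInstance, inferInstance, ρQ, ?_, fun g => ?_, ?_⟩
  · have h1 := R'.finrank_quotient_add_finrank
    rw [Module.finrank_fin_fun, hR'dim] at h1
    have := hR.dim
    omega
  · have h1 := htr g⁻¹
    rw [hR.inv, htr g, show (Finset.univ.filter fun x : α => g⁻¹ • x = x) =
      Finset.univ.filter fun x : α => g • x = x from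
        Finset.filter_congr fun x _ => by rw [inv_smul_eq_iff, eq_comm]] at h1
    exact (add_left_cancel h1).symm
  · have hne1 : ¬ Nat.card E ∣ 1 := fun h1 => by
      have := three_le_card h hodd
      have := Nat.le_of_dvd one_pos h1
      omega
    have h1 := htr F.y
    have hy : (Finset.univ.filter fun x : α => F.y • x = x) = {F.e 0} := by
      ext x
      obtain ⟨i, rfl⟩ := F.e.surjective x
      rw [Finset.mem_filter, fixed_iff h F (F.zpowers_y.le (Subgroup.mem_zpowers F.y))
        (fun h0 => hne1 (by rw [← F.orderOf_y, h0, orderOf_one])), Finset.mem_singleton,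
        F.e.apply_eq_iff_eq]
      simp
    have h2 := hR.pow 1 hne1
    rw [pow_one, pow_one, one_mul] at h2
    rw [h2, hy, Finset.card_singleton, Nat.cast_one] at h1
    rw [inv_eq_of_mul_eq_one_right (a := ι k F.r) (b := ι k F.r ^ (Nat.card E - 1)) (by
      rw [← pow_succ', show Nat.card E - 1 + 1 = Nat.card E by
        have := three_le_card h hodd; omega, rho_pow])]
    linear_combination -h1

end Quot

end CfsgLib.Perm.UniqueDegreeP
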