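import Cfsg.Agent.Lib.Perm.UniqueDegreeP.EvenCase
import Cfsg.Agent.Lib.Char.AbelianInertia
import Cfsg.Agent.Lib.ClassSizes.Kulakoff

/-!
# The case of a complement of odd order: fusion in `E` and two irreducible characters

An element of `N(E)` outside `E` inverts `E`, the centralizer of a nontrivial element of `E` is
`E`, the character of degree `p` is `1` on `E \ {1}`, and every nontrivial linear character `θ`
of `E` gives an irreducible character of degree `p + 1` with values `θ + θ⁻¹` there.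
-/

set_option autoImplicit false

namespace CfsgLib.Perm.UniqueDegreeP

open MulAction CfsgLib.Char CfsgLib.CharDegree
open scoped _root_.Classical ComplexConjugate

variable {α : Type*} [Fintype α] [DecidableEq α] {p : ℕ} [Fact p.Prime]
variable {G : Subgroup (Equiv.Perm α)} {P : Sylow p G} {E : Subgroup G}

theorem le_normalizer_self : E ≤ Subgroup.normalizer (E : Set G) := Subgroup.le_normalizer

theorem mem_E_of_conj_mem (h : Hyp G P E) {z g : G} (hz : z ∈ E) (hz1 : z ≠ 1)
    (hg : g * z * g⁻¹ ∈ E) : g ∈ Subgroup.normalizer (E : Set G) := by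
  by_contra hgN
  have h1 : g * z * g⁻¹ ∈ E ⊓ E.map (MulAut.conj g).toMonoidHom := ⟨hg, z, hz, rfl⟩
  rw [h.ti g hgN, Subgroup.mem_bot, conj_eq_one_iff] at h1
  exact hz1 h1

theorem mul_self_mem (h : Hyp G P E) {g : G} (hg : g ∈ Subgroup.normalizer (E : Set G)) :
    g * g ∈ E := by
  have hidx : (E.subgroupOf (Subgroup.normalizer (E : Set G))).index = 2 := by
    have h1 := (E.subgroupOf (Subgroup.normalizer (E : Set G))).card_mul_index
    rw [h.card_norm, Nat.card_congr (Subgroup.subgroupOfEquivOfLe le_normalizer_self).toEquiv,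
      mul_comm 2] at h1
    exact Nat.eq_of_mul_eq_mul_left Nat.card_pos h1
  have := Subgroup.mul_self_mem_of_index_two hidx (⟨g, hg⟩ : Subgroup.normalizer (E : Set G))
  rw [Subgroup.mem_subgroupOf] at this
  exact this

theorem mem_E_of_odd_order (h : Hyp G P E) {g : G} (hg : g ∈ Subgroup.normalizer (E : Set G))
    (ho : Odd (orderOf g)) : g ∈ E := by
  obtain ⟨k, hk⟩ := ho
  have h1 : g = (g * g) ^ (k + 1) := by
    rw [← pow_two, ← pow_mul, show 2 * (k + 1) = orderOf g + 1 by omega, pow_succ,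
      pow_orderOf_eq_one, one_mul]
  rw [h1]
  exact pow_mem (mul_self_mem h hg) _

theorem E_comm (h : Hyp G P E) {a b : G} (ha : a ∈ E) (hb : b ∈ E) : a * b = b * a := by
  obtain ⟨F⟩ := exists_frame h
  rw [← F.zpowers_y] at ha hb
  obtain ⟨i, rfl⟩ := ha
  obtain ⟨j, rfl⟩ := hb
  exact ((Commute.refl F.y).zpow_zpow i j).eq

theorem odd_orderOf (hodd : Odd (Nat.card E)) {z : G} (hz : z ∈ E) : Odd (orderOf z) :=
  hodd.of_dvd_nat (Subgroup.orderOf_mk z hz ▸ orderOf_dvd_natCard (⟨z, hz⟩ : E))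

/-- A normalizing element outside `E` centralizes nothing in `E`. -/
theorem not_commute (h : Hyp G P E) (hodd : Odd (Nat.card E)) {g : G}
    (hg : g ∈ Subgroup.normalizer (E : Set G)) (hgE : g ∉ E) {z : G} (hz : z ∈ E)
    (hz1 : z ≠ 1) : g * z ≠ z * g := by
  intro hgz
  obtain ⟨q, hq, hqz⟩ := Nat.exists_prime_and_dvd
    (fun h1 => hz1 (orderOf_eq_one_iff.1 h1) : orderOf z ≠ 1)
  have := Fact.mk hq
  set w := z ^ (orderOf z / q) with hw
  have hwE : w ∈ E := hw ▸ pow_mem hz _
  have hwo : orderOf w = q := by rw [hw]; exact orderOf_pow_orderOf_div (orderOf_pos z).ne' hqz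
  have hgw : Commute g w := hw ▸ Commute.pow_right hgz _
  have hw1 : w ≠ 1 := fun h1 => hq.ne_one (by rw [← hwo, h1, orderOf_one])
  have hqodd : Odd q := hwo ▸ odd_orderOf hodd hwE
  -- `g` centralizes the elements of `q`-power order of `E`
  have hfix : ∀ u ∈ E, (∃ k, orderOf u = q ^ k) → g * u = u * g := by
    rintro u hu ⟨k, hk⟩
    set v := u⁻¹ * (g * u * g⁻¹) with hv
    have hcE : g * u * g⁻¹ ∈ E := (Subgroup.mem_normalizer_iff.1 hg u).1 hu
    have hvE : v ∈ E := mul_mem (inv_mem hu) hcE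
    suffices hv1 : v = 1 by
      rw [hv, inv_mul_eq_one] at hv1
      exact (eq_mul_inv_iff_mul_eq.1 hv1).symm
    have hinv : g * v * g⁻¹ = v⁻¹ := by
      have h2 : g * (g * u * g⁻¹) * g⁻¹ = u := by
        rw [show g * (g * u * g⁻¹) * g⁻¹ = (g * g) * u * (g * g)⁻¹ by group,
          E_comm h (mul_self_mem h hg) hu, mul_inv_cancel_right]
      rw [hv, show g * (u⁻¹ * (g * u * g⁻¹)) * g⁻¹ =
        (g * u * g⁻¹)⁻¹ * (g * (g * u * g⁻¹) * g⁻¹) by group, h2]
      group
    have hvq : v ^ q ^ k = 1 := by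
      have hc : (g * u * g⁻¹) ^ q ^ k = 1 := by
        rw [conj_pow, ← hk, pow_orderOf_eq_one, mul_one, mul_inv_cancel]
      rw [hv, Commute.mul_pow (E_comm h (inv_mem hu) hcE), hc, inv_pow, ← hk, pow_orderOf_eq_one,
        inv_one, mul_one]
    by_contra hv1
    obtain ⟨j, -, hjo⟩ := (Nat.dvd_prime_pow hq).1 (orderOf_dvd_of_pow_eq_one hvq)
    have hqv : q ∣ orderOf v := by
      rcases j with _ | j
      · exact absurd (orderOf_eq_one_iff.1 (by rw [hjo, pow_zero])) hv1
      · exact hjo ▸ dvd_pow_self q (Nat.succ_ne_zero j)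
    set t := v ^ (orderOf v / q) with ht
    have hto : orderOf t = q := by rw [ht]; exact orderOf_pow_orderOf_div (orderOf_pos v).ne' hqv
    obtain ⟨F⟩ := exists_frame h
    have htw : t ∈ Subgroup.zpowers w := by
      have hcyc : IsCyclic E := by rw [← F.zpowers_y]; infer_instance
      have h1 : Subgroup.zpowers (⟨t, ht ▸ pow_mem hvE _⟩ : E) = Subgroup.zpowers ⟨w, hwE⟩ :=
        CfsgLib.ClassSizes.Kulakoff.eq_of_card_eq_of_isCyclic (by
          rw [Nat.card_zpowers, Nat.card_zpowers, Subgroup.orderOf_mk t (ht ▸ pow_mem hvE _), Subgroup.orderOf_mk w hwE, hto,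
            hwo])
      have h2 : (⟨t, ht ▸ pow_mem hvE _⟩ : E) ∈ Subgroup.zpowers (⟨w, hwE⟩ : E) :=
        h1 ▸ Subgroup.mem_zpowers _
      obtain ⟨i, hi⟩ := h2
      exact ⟨i, by simpa using congrArg Subtype.val hi⟩
    have hgt : g * t * g⁻¹ = t := by
      obtain ⟨i, hi⟩ := htw
      dsimp only at hi
      rw [← hi, (hgw.zpow_right i).eq, mul_inv_cancel_right]
    have hgt' : g * t * g⁻¹ = t⁻¹ := by
      rw [ht, ← conj_pow, hinv, inv_pow]
    have h2 : t ^ 2 = 1 := by
      rw [pow_two]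
      exact eq_inv_iff_mul_eq_one.1 (hgt.symm.trans hgt')
    have := Nat.le_of_dvd two_pos (hto ▸ orderOf_dvd_of_pow_eq_one h2)
    have := hq.two_le
    obtain ⟨m, hm⟩ := hqodd
    omega
  obtain ⟨S, hS⟩ := (IsPGroup.of_card (n := 1) (G := Subgroup.zpowers w)
    (by rw [Nat.card_zpowers, hwo, pow_one])).exists_le_sylow
  have hwS : w ∈ (S : Subgroup G) := hS (Subgroup.mem_zpowers w)
  have hSord : ∀ x ∈ (S : Subgroup G), ∃ k, orderOf x = q ^ k := fun x hx => by
    obtain ⟨k, hk⟩ := S.2.exists_orderOf_eq_pow ⟨x, hx⟩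
    exact ⟨k, by rw [← hk, ← Subgroup.orderOf_mk x hx]⟩
  have hSodd : ∀ x ∈ (S : Subgroup G), Odd (orderOf x) := fun x hx => by
    obtain ⟨k, hk⟩ := hSord x hx
    exact hk ▸ hqodd.pow
  have : Nontrivial (S : Subgroup G) := ⟨⟨w, hwS⟩, 1, fun h1 => hw1 (congrArg Subtype.val h1)⟩
  obtain ⟨⟨c, hc⟩, hc1⟩ := (nontrivial_iff_exists_ne (1 : Subgroup.center (S : Subgroup G))).1
    S.2.center_nontrivial
  have hc' : (c : G) ≠ 1 := fun h1 => hc1 (Subtype.ext (Subtype.ext h1))
  have hcw : (c : G) * w = w * (c : G) :=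
    congrArg Subtype.val ((Subgroup.mem_center_iff.1 hc) ⟨w, hwS⟩).symm
  have hcE : (c : G) ∈ E := mem_E_of_odd_order h
    (centralizer_le h hwE hw1 (Subgroup.mem_centralizer_singleton_iff.2 hcw)) (hSodd _ c.2)
  have hSE : (S : Subgroup G) ≤ E := fun x hx => mem_E_of_odd_order h
    (centralizer_le h hcE hc' (Subgroup.mem_centralizer_singleton_iff.2
      (congrArg Subtype.val ((Subgroup.mem_center_iff.1 hc) ⟨x, hx⟩)))) (hSodd x hx)
  have hNC : Subgroup.normalizer ((S : Subgroup G) : Set G) ≤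
      Subgroup.centralizer ((S : Subgroup G) : Set G) := by
    intro n hn
    have hnN := mem_E_of_conj_mem h hwE hw1 (hSE ((Subgroup.mem_normalizer_iff.1 hn w).1 hwS))
    rw [Subgroup.mem_centralizer_iff]
    intro x hx
    have hxE := hSE hx
    by_cases hnE : n ∈ E
    · exact E_comm h hxE hnE
    · obtain ⟨a, ha, rfl⟩ : ∃ a ∈ E, n = g * a := by
        refine ⟨g⁻¹ * n, ?_, by group⟩
        have hidx : (E.subgroupOf (Subgroup.normalizer (E : Set G))).index = 2 := by
          have h1 := (E.subgroupOf (Subgroup.normalizer (E : Set G))).card_mul_index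
          rw [h.card_norm,
            Nat.card_congr (Subgroup.subgroupOfEquivOfLe le_normalizer_self).toEquiv,
            mul_comm 2] at h1
          exact Nat.eq_of_mul_eq_mul_left Nat.card_pos h1
        have h1 := Subgroup.mul_mem_iff_of_index_two hidx
          (a := (⟨g, hg⟩ : Subgroup.normalizer (E : Set G))⁻¹) (b := ⟨n, hnN⟩)
        simp only [Subgroup.mem_subgroupOf, Subgroup.coe_mul, Subgroup.coe_inv,
          inv_mem_iff, hgE, hnE] at h1
        exact h1.2 trivial
      have hgx := hfix x hxE (hSord x hx)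
      rw [← mul_assoc, ← hgx, mul_assoc, E_comm h hxE ha, mul_assoc]
  have := isSimpleGroup h
  rcases IsSimpleGroup.eq_bot_or_eq_top_of_normal (MonoidHom.transferSylow S hNC).ker
    inferInstance with h1 | h1
  · have h2 := MonoidHom.ker_transferSylow_isComplement' S hNC
    rw [h1, Subgroup.isComplement'_bot_left] at h2
    have h3 : (P : Subgroup G) ≤ (P : Subgroup G) ⊓ E :=
      le_inf le_rfl (le_top.trans (h2.ge.trans hSE))
    rw [h.inf_eq, le_bot_iff] at h3
    have h4 := sylow_card h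
    rw [h3, Subgroup.card_bot] at h4
    exact (Fact.out : p.Prime).one_lt.ne h4
  · have h2 := MonoidHom.ker_transferSylow_isComplement' S hNC
    rw [h1, Subgroup.isComplement'_top_left] at h2
    exact hw1 (by rw [h2] at hwS; exact Subgroup.mem_bot.1 hwS)

/-- A normalizing element outside `E` inverts `E`. -/
theorem conj_eq_inv (h : Hyp G P E) (hodd : Odd (Nat.card E)) {g : G}
    (hg : g ∈ Subgroup.normalizer (E : Set G)) (hgE : g ∉ E) {z : G} (hz : z ∈ E) :
    g * z * g⁻¹ = z⁻¹ := by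
  have hcE : g * z * g⁻¹ ∈ E := (Subgroup.mem_normalizer_iff.1 hg z).1 hz
  have h2 : g * (g * z * g⁻¹) * g⁻¹ = z := by
    rw [show g * (g * z * g⁻¹) * g⁻¹ = (g * g) * z * (g * g)⁻¹ by group,
      E_comm h (mul_self_mem h hg) hz, mul_inv_cancel_right]
  by_contra hne
  refine not_commute h hodd hg hgE (mul_mem hz hcE)
    (fun h1 => hne (eq_inv_of_mul_eq_one_right h1)) ?_
  rw [← mul_inv_eq_iff_eq_mul, show g * (z * (g * z * g⁻¹)) * g⁻¹ =
    (g * z * g⁻¹) * (g * (g * z * g⁻¹) * g⁻¹) by group, h2, E_comm h hcE hz]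

/-- The centralizer of a nontrivial element of `E` is `E`. -/
theorem centralizer_eq (h : Hyp G P E) (hodd : Odd (Nat.card E)) {z : G} (hz : z ∈ E)
    (hz1 : z ≠ 1) : Subgroup.centralizer ({z} : Set G) = E := by
  refine le_antisymm (fun g hg => ?_) fun g hg =>
    Subgroup.mem_centralizer_singleton_iff.2 (E_comm h hg hz)
  by_contra hgE
  exact not_commute h hodd (centralizer_le h hz hz1 hg) hgE hz hz1
    (Subgroup.mem_centralizer_singleton_iff.1 hg)

theorem conj_mem_cases (h : Hyp G P E) (hodd : Odd (Nat.card E)) {z g : G} (hz : z ∈ E)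
    (hz1 : z ≠ 1) (hg : g * z * g⁻¹ ∈ E) :
    (g ∈ E ∧ g * z * g⁻¹ = z) ∨ (g ∉ E ∧ g * z * g⁻¹ = z⁻¹) := by
  by_cases hgE : g ∈ E
  · exact Or.inl ⟨hgE, by rw [E_comm h hgE hz, mul_inv_cancel_right]⟩
  · exact Or.inr ⟨hgE, conj_eq_inv h hodd (mem_E_of_conj_mem h hz hz1 hg) hgE hz⟩

theorem exists_inverting (h : Hyp G P E) (hodd : Odd (Nat.card E)) :
    ∃ g ∈ Subgroup.normalizer (E : Set G), g ∉ E ∧ ∀ z ∈ E, g * z * g⁻¹ = z⁻¹ := by
  by_contra hno
  have hle : Subgroup.normalizer (E : Set G) ≤ E := fun g hg => by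
    by_contra hgE
    exact hno ⟨g, hg, hgE, fun z hz => conj_eq_inv h hodd hg hgE hz⟩
  have h1 := Subgroup.card_le_of_le hle
  rw [h.card_norm] at h1
  have : 0 < Nat.card E := Nat.card_pos
  omega

section Fintype

variable [Fintype G]

theorem indFun_comp_inv (h : Hyp G P E) (hodd : Odd (Nat.card E)) (ψ : E → ℂ) :
    Cfsg.indFun E (fun x => ψ x⁻¹) = Cfsg.indFun E ψ := by
  obtain ⟨n, hn, -, hninv⟩ := exists_inverting h hodd
  funext g
  simp only [Cfsg.indFun]
  congr 1
  refine Fintype.sum_equiv (Equiv.mulRight n⁻¹) _ _ fun x => ?_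
  simp only [Equiv.coe_mulRight, mul_inv_rev, inv_inv]
  rw [show n * x⁻¹ * g * (x * n⁻¹) = n * (x⁻¹ * g * x) * n⁻¹ by group]
  by_cases hx : x⁻¹ * g * x ∈ E
  · rw [extendByZero_of_mem E _ hx, extendByZero_of_mem E _ ((Subgroup.mem_normalizer_iff.1 hn _).1 hx)]
    exact congrArg ψ (Subtype.ext (hninv _ hx).symm)
  · rw [extendByZero_of_notMem E _ hx,
      extendByZero_of_notMem E _ fun h1 => hx ((Subgroup.mem_normalizer_iff.1 hn _).2 h1)]

/-- The restriction to `E` of a function induced from `E` that vanishes at `1`. -/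
theorem indFun_apply (h : Hyp G P E) (hodd : Odd (Nat.card E)) {ψ : E → ℂ} (h0 : ψ 1 = 0)
    (z : E) : Cfsg.indFun E ψ (z : G) = ψ z + ψ z⁻¹ := by
  by_cases hz1 : z = 1
  · subst hz1
    rw [Subgroup.coe_one, indFun_apply_one, inv_one, h0]
    simp
  have hz1' : (z : G) ≠ 1 := fun h1 => hz1 (Subtype.ext h1)
  obtain ⟨n, hn, hnE, hninv⟩ := exists_inverting h hodd
  have hterm : ∀ x : G, Cfsg.extendByZero E ψ (x⁻¹ * z * x) =
      Cfsg.extendByZero E (fun _ => ψ z) x + Cfsg.extendByZero E (fun _ => ψ z⁻¹) (n * x) := by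
    intro x
    by_cases hmem : x⁻¹ * z * x ∈ E
    · rcases conj_mem_cases h hodd z.2 hz1' (g := x⁻¹) (by rw [inv_inv]; exact hmem) with
        ⟨hx, he⟩ | ⟨hx, he⟩ <;> rw [inv_inv] at he <;> rw [inv_mem_iff] at hx
      · have h1 : n * x ∉ E := fun h1 => hnE (by simpa using mul_mem h1 (inv_mem hx))
        rw [extendByZero_of_mem E _ hmem, extendByZero_of_mem E _ hx,
          extendByZero_of_notMem E _ h1, add_zero]
        exact congrArg ψ (Subtype.ext he)
      · have hxN : x ∈ Subgroup.normalizer (E : Set G) :=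
          (Subgroup.inv_mem_iff _).1 (mem_E_of_conj_mem h z.2 hz1' (by rw [inv_inv]; exact hmem))
        have hidx : (E.subgroupOf (Subgroup.normalizer (E : Set G))).index = 2 := by
          have h1 := (E.subgroupOf (Subgroup.normalizer (E : Set G))).card_mul_index
          rw [h.card_norm,
            Nat.card_congr (Subgroup.subgroupOfEquivOfLe le_normalizer_self).toEquiv,
            mul_comm 2] at h1
          exact Nat.eq_of_mul_eq_mul_left Nat.card_pos h1
        have h2 := Subgroup.mul_mem_iff_of_index_two hidx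
          (a := (⟨n, hn⟩ : Subgroup.normalizer (E : Set G))) (b := ⟨x, hxN⟩)
        simp only [Subgroup.mem_subgroupOf, Subgroup.coe_mul, hnE, hx] at h2
        rw [extendByZero_of_mem E _ hmem, extendByZero_of_notMem E _ hx,
          extendByZero_of_mem E _ (h2.2 trivial), zero_add]
        exact congrArg ψ (Subtype.ext he)
    · have hx : x ∉ E := fun hx => hmem (mul_mem (mul_mem (inv_mem hx) z.2) hx)
      have hnx : n * x ∉ E := fun hnx => by
        apply hmem
        rw [show x⁻¹ * (z : G) * x = (n * x)⁻¹ * (n * z * n⁻¹) * (n * x) by group]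
        exact mul_mem (mul_mem (inv_mem hnx) ((Subgroup.mem_normalizer_iff.1 hn _).1 z.2)) hnx
      rw [extendByZero_of_notMem E _ hmem, extendByZero_of_notMem E _ hx,
        extendByZero_of_notMem E _ hnx, add_zero]
  have hsum : ∀ c : ℂ, ∑ x : G, Cfsg.extendByZero E (fun _ => c) x = Nat.card E * c := by
    intro c
    have h1 := sum_extendByZero_mul E (fun _ => c) (fun _ : G => (1 : ℂ))
    simpa [Nat.card_eq_fintype_card] using h1
  rw [Cfsg.indFun, Finset.sum_congr rfl fun x _ => hterm x, Finset.sum_add_distrib, hsum,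
    Fintype.sum_equiv (Equiv.mulLeft n) (fun x => Cfsg.extendByZero E (fun _ => ψ z⁻¹) (n * x))
      (Cfsg.extendByZero E fun _ => ψ z⁻¹) (fun x => rfl), hsum, ← mul_add,
    ← mul_assoc, inv_mul_cancel₀ (Nat.cast_ne_zero.mpr Nat.card_pos.ne'), one_mul]

end Fintype

end CfsgLib.Perm.UniqueDegreeP
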