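import Cfsg.Agent.Lib.Perm.UniqueDegreeP.OddCase

/-!
# The case of a complement of odd order: the characters of degree `p` and `p + 1`
-/

set_option autoImplicit false

namespace CfsgLib.Perm.UniqueDegreeP

open MulAction CfsgLib.Char CfsgLib.CharDegree
open scoped _root_.Classical ComplexConjugate

variable {α : Type*} [Fintype α] [DecidableEq α] {p : ℕ} [Fact p.Prime]
variable {G : Subgroup (Equiv.Perm α)} {P : Sylow p G} {E : Subgroup G}

theorem exists_linear (h : Hyp G P E) (θ : Cfsg.IrrCharacter E) :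
    ∃ l : E →* ℂˣ, (θ : E → ℂ) = fun z => (l z : ℂ) :=
  exists_linear_of_degree_one (IsIrr.isCharacter θ.2)
    (CfsgLib.Clifford.apply_one_eq_one_of_commute
      (fun a b => Subtype.ext (E_comm h a.2 b.2)) θ)

theorem exists_irr_apply_eq (F : Frame G P E) (ζ : ℂˣ) (hζ : ζ ^ Nat.card E = 1) :
    ∃ θ : Cfsg.IrrCharacter E, ∀ n : ℕ,
      (θ : E → ℂ) (⟨F.y, F.zpowers_y.le (Subgroup.mem_zpowers F.y)⟩ ^ n) = (ζ : ℂ) ^ n := by
  have hgen : ∀ x : E, x ∈ Subgroup.zpowers
      (⟨F.y, F.zpowers_y.le (Subgroup.mem_zpowers F.y)⟩ : E) := by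
    rintro ⟨x, hx⟩
    obtain ⟨k, hk⟩ := F.zpowers_y.ge hx
    exact ⟨k, Subtype.ext (by simpa using hk)⟩
  have hdvd : orderOf ζ ∣ orderOf (⟨F.y, F.zpowers_y.le (Subgroup.mem_zpowers F.y)⟩ : E) := by
    rw [Subgroup.orderOf_mk F.y, F.orderOf_y]
    exact orderOf_dvd_of_pow_eq_one hζ
  refine ⟨⟨_, isIrrCharacter_linear (monoidHomOfForallMemZpowers hgen hdvd)⟩, fun n => ?_⟩
  simp only [map_pow, monoidHomOfForallMemZpowers_apply_gen, Units.val_pow_eq_pow_val]

theorem ne_conj (h : Hyp G P E) (hodd : Odd (Nat.card E)) {θ : Cfsg.IrrCharacter E}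
    (hθ : θ ≠ trivChar E) : ∃ z, (θ : E → ℂ) z⁻¹ ≠ (θ : E → ℂ) z := by
  by_contra hno
  push Not at hno
  obtain ⟨l, hl⟩ := exists_linear h θ
  refine hθ (irr_ext fun z => ?_)
  have h1 : l z * l z = 1 := by
    have h2 := hno z
    rw [hl] at h2
    have h3 : l z⁻¹ = l z := Units.ext h2
    nth_rw 1 [← h3]
    rw [← map_mul, inv_mul_cancel, map_one]
  have h4 : orderOf (l z) = 1 := by
    have ha : orderOf (l z) ∣ 2 := orderOf_dvd_of_pow_eq_one (by rw [pow_two]; exact h1)
    have hb : Odd (orderOf (l z)) :=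
      hodd.of_dvd_nat ((orderOf_map_dvd l z).trans (orderOf_dvd_natCard z))
    rcases (Nat.dvd_prime Nat.prime_two).1 ha with h5 | h5
    · exact h5
    · rw [h5] at hb
      exact absurd hb (by decide)
  rw [hl, trivChar_apply]
  simp [orderOf_eq_one_iff.1 h4]

section Fintype

variable [Fintype G] [Fintype E]

/-- The virtual character induced from `θ - 1`. -/
noncomputable def virt (θ : Cfsg.IrrCharacter E) : G → ℂ :=
  Cfsg.indFun E ((θ : E → ℂ) - (trivChar E : E → ℂ))

theorem isGen_virt (θ : Cfsg.IrrCharacter E) :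
    Cfsg.IsGeneralizedCharacter G (virt (G := G) θ) :=
  IsGen.indFun (IsGen.sub (IsGen.of_irr θ.2) (IsGen.of_irr (trivChar E).2))

theorem virt_apply_one (h : Hyp G P E) (θ : Cfsg.IrrCharacter E) : virt (G := G) θ 1 = 0 := by
  obtain ⟨l, hl⟩ := exists_linear h θ
  rw [virt, indFun_apply_one, Pi.sub_apply, hl, trivChar_apply]
  simp

theorem virt_apply (h : Hyp G P E) (hodd : Odd (Nat.card E)) (θ : Cfsg.IrrCharacter E) (z : E) :
    virt (G := G) θ z = ((θ : E → ℂ) z - 1) + ((θ : E → ℂ) z⁻¹ - 1) := by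
  obtain ⟨l, hl⟩ := exists_linear h θ
  rw [virt, indFun_apply h hodd (by simp [hl]) z]
  simp

theorem classInner_virt_one (h : Hyp G P E) {θ : Cfsg.IrrCharacter E} (hθ : θ ≠ trivChar E) :
    Cfsg.classInner (virt (G := G) θ) (fun _ => 1) = -1 := by
  rw [virt, frobenius_reciprocity E _ (IsChar.isClassFunction isCharacter_one),
    show (fun z : E => (1 : ℂ)) = (trivChar E : E → ℂ) from rfl, classInner_sub_left,
    classInner_irr_of_ne hθ, classInner_irr_self]
  ring

theorem classInner_virt_self (h : Hyp G P E) (hodd : Odd (Nat.card E))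
    {θ : Cfsg.IrrCharacter E} (hθ : θ ≠ trivChar E) :
    Cfsg.classInner (virt (G := G) θ) (virt (G := G) θ) = 3 := by
  obtain ⟨l, hl⟩ := exists_linear h θ
  let θ' : Cfsg.IrrCharacter E := ⟨fun z => ((l⁻¹ : E →* ℂˣ) z : ℂ), isIrrCharacter_linear _⟩
  have hinv : ∀ z, (θ' : E → ℂ) z = (θ : E → ℂ) z⁻¹ := fun z => by
    rw [hl]; simp [θ', map_inv]
  have hne : θ' ≠ θ := fun h1 => by
    obtain ⟨z, hz⟩ := ne_conj h hodd hθ
    exact hz (by rw [← hinv, h1])
  have hne1 : θ' ≠ trivChar E := fun h1 => by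
    refine hθ (irr_ext fun z => ?_)
    have h2 := hinv z⁻¹
    rw [h1, inv_inv] at h2
    exact h2.symm
  have hres : (fun z : E => virt (G := G) θ z) =
      ((θ : E → ℂ) - (trivChar E : E → ℂ)) + ((θ' : E → ℂ) - (trivChar E : E → ℂ)) :=
    funext fun z => by rw [virt_apply h hodd]; simp [hinv]
  conv_lhs => arg 1; rw [virt]
  rw [frobenius_reciprocity E _ (IsGen.isClassFunction (isGen_virt θ)), hres]
  simp only [classInner_sub_left, classInner_add_right, classInner_sub_right, classInner_irr_self,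
    classInner_irr_of_ne hθ, classInner_irr_of_ne hθ.symm, classInner_irr_of_ne hne1.symm,
    classInner_irr_of_ne hne.symm]
  norm_num

theorem virt_real (h : Hyp G P E) (hodd : Odd (Nat.card E)) (θ : Cfsg.IrrCharacter E) (g : G) :
    virt (G := G) θ g⁻¹ = virt θ g := by
  rw [IsGen.map_inv (isGen_virt θ)]
  conv_rhs => rw [virt, ← indFun_comp_inv h hodd]
  simp only [virt, Cfsg.indFun, map_mul, map_sum, map_inv₀, Complex.conj_natCast]
  congr 1
  refine Finset.sum_congr rfl fun x _ => ?_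
  by_cases hx : x⁻¹ * g * x ∈ E
  · rw [extendByZero_of_mem E _ hx, extendByZero_of_mem E _ hx]
    simp [IsIrr.map_inv θ.2]
  · rw [extendByZero_of_notMem E _ hx, extendByZero_of_notMem E _ hx, map_zero]

/-- The coefficient of the character of degree `p` in `virt θ`. -/
theorem classInner_virt_deg (h : Hyp G P E) (hodd : Odd (Nat.card E)) (χ : Cfsg.IrrCharacter G)
    (hχ : (χ : G → ℂ) 1 = p) {θ : Cfsg.IrrCharacter E} (hθ : θ ≠ trivChar E) :
    Cfsg.classInner (virt (G := G) θ) (χ : G → ℂ) = -1 := by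
  have hp : p.Prime := Fact.out
  have : Fintype (Cfsg.IrrCharacter G) := Fintype.ofFinite _
  have : Fintype (Cfsg.IrrCharacter E) := Fintype.ofFinite _
  have hne : χ ≠ trivChar G := fun h1 => by
    rw [h1, trivChar_apply] at hχ
    exact hp.one_lt.ne (by exact_mod_cast hχ)
  have hm : ∀ φ : Cfsg.IrrCharacter E, ∃ m : ℤ,
      Cfsg.classInner (virt (G := G) φ) (χ : G → ℂ) = m := fun φ =>
    IsGen.exists_classInner_eq_intCast (isGen_virt φ) (IsGen.of_irr χ.2)
  choose m hm using hm
  have hbound : ∀ φ, φ ≠ trivChar E → -1 ≤ m φ ∧ m φ ≤ 1 := by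
    intro φ hφ
    obtain ⟨c, hc⟩ := IsGen.exists_sum (isGen_virt (G := G) φ)
    have hcoef : ∀ ψ : Cfsg.IrrCharacter G, Cfsg.classInner (virt (G := G) φ) (ψ : G → ℂ) = c ψ := fun ψ => by
      rw [hc, classInner_sum_left, Finset.sum_eq_single ψ]
      · rw [classInner_smul_left, classInner_irr_self, mul_one]
      · intro b _ hb
        rw [classInner_smul_left, classInner_irr_of_ne hb, mul_zero]
      · exact fun h1 => absurd (Finset.mem_univ ψ) h1
    have hnorm := classInner_virt_self h hodd hφ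
    rw [hc, IsGen.classInner_self] at hnorm
    have hnorm' : ∑ ψ, c ψ * c ψ = 3 := by exact_mod_cast hnorm
    have h1 : c (trivChar G) = -1 := by
      have := (hcoef (trivChar G)).symm.trans (classInner_virt_one h hφ)
      exact_mod_cast this
    have h2 : m φ = c χ := by
      have := (hm φ).symm.trans (hcoef χ)
      exact_mod_cast this
    rw [← Finset.add_sum_erase _ _ (Finset.mem_univ (trivChar G)), h1,
      ← Finset.add_sum_erase _ _ (Finset.mem_erase.2 ⟨hne, Finset.mem_univ χ⟩)] at hnorm'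
    have h3 : 0 ≤ ∑ x ∈ (Finset.univ.erase (trivChar G)).erase χ, c x * c x :=
      Finset.sum_nonneg fun x _ => mul_self_nonneg _
    have h4 : c χ * c χ ≤ 2 := by linarith
    rw [h2]
    exact ⟨by nlinarith, by nlinarith⟩
  -- conjugate characters have equal coefficients
  have hbar : ∀ φ : Cfsg.IrrCharacter E, ∃ φ' : Cfsg.IrrCharacter E,
      ∀ z, (φ' : E → ℂ) z = (φ : E → ℂ) z⁻¹ := fun φ => by
    obtain ⟨l, hl⟩ := exists_linear h φ
    exact ⟨⟨_, isIrrCharacter_linear l⁻¹⟩, fun z => by rw [hl]; simp [map_inv]⟩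
  choose bar hbar using hbar
  have hbb : ∀ φ, bar (bar φ) = φ := fun φ => irr_ext fun z => by rw [hbar, hbar, inv_inv]
  have hbar1 : bar (trivChar E) = trivChar E := irr_ext fun z => by rw [hbar]; rfl
  have hmbar : ∀ φ, m (bar φ) = m φ := fun φ => by
    have h1 : virt (G := G) (bar φ) = virt φ := by
      rw [virt, virt, ← indFun_comp_inv h hodd]
      congr 1
      funext z
      simp [hbar]
    have := (hm (bar φ)).symm.trans ((congrArg (Cfsg.classInner · (χ : G → ℂ)) h1).trans (hm φ))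
    exact_mod_cast this
  -- the sum of all coefficients
  set s := (Finset.univ : Finset (Cfsg.IrrCharacter E)).erase (trivChar E) with hs
  have hcards : (s.card : ℤ) = Nat.card E - 1 := by
    have h1 : Fintype.card (Cfsg.IrrCharacter E) = Nat.card E := by
      have h2 := sum_sq_degree (G := E)
      simp only [CfsgLib.Clifford.apply_one_eq_one_of_commute
        (fun a b : E => Subtype.ext (E_comm h a.2 b.2)), one_pow, Finset.sum_const,
        Finset.card_univ, nsmul_eq_mul, mul_one] at h2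
      exact_mod_cast h2
    rw [hs, Finset.card_erase_of_mem (Finset.mem_univ _), Finset.card_univ, h1, Nat.cast_sub]
    · simp
    · exact Nat.card_pos
  have heven : (∑ φ ∈ s, (m φ : ZMod 2)) = 0 := by
    refine Finset.sum_involution (fun φ _ => bar φ) (fun φ _ => ?_) (fun φ hφ _ => ?_)
      (fun φ hφ => ?_) (fun φ _ => hbb φ)
    · rw [hmbar, ← two_mul, show (2 : ZMod 2) = 0 from rfl, zero_mul]
    · intro h1
      obtain ⟨z, hz⟩ := ne_conj h hodd (Finset.mem_erase.1 hφ).1
      exact hz (by rw [← hbar, h1])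
    · refine Finset.mem_erase.2 ⟨fun h1 => (Finset.mem_erase.1 hφ).1 ?_, Finset.mem_univ _⟩
      rw [← hbb φ, h1, hbar1]
  obtain ⟨a, ha⟩ := IsChar.classInner_eq_natCast (IsIrr.isCharacter (trivChar E).2)
    (IsChar.restrict E (IsIrr.isCharacter χ.2))
  have hsum : (∑ φ ∈ s, (m φ : ℂ)) = (p : ℂ) - Nat.card E * a := by
    have h0 : Cfsg.classInner (virt (G := G) (trivChar E)) (χ : G → ℂ) = 0 := by
      rw [virt, sub_self, indFun_zero, classInner_zero_left]
    rw [Finset.sum_congr rfl fun φ _ => (hm φ).symm, hs,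
      Finset.sum_erase (f := fun φ => Cfsg.classInner (virt (G := G) φ) (χ : G → ℂ)) _ h0,
      ← classInner_sum_left]
    have hreg : ∀ z : E, ∑ φ : Cfsg.IrrCharacter E, (φ : E → ℂ) z =
        if z = 1 then (Nat.card E : ℂ) else 0 := fun z => by
      have hd := fun φ => CfsgLib.Clifford.apply_one_eq_one_of_commute
        (fun a b : E => Subtype.ext (E_comm h a.2 b.2)) φ
      split_ifs with hz
      · subst hz
        rw [← sum_sq_degree (G := E)]
        simp [hd]
      · rw [← sum_degree_mul_apply_of_ne_one hz]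
        simp [hd]
    have hfun : (∑ φ : Cfsg.IrrCharacter E, ((φ : E → ℂ) - (trivChar E : E → ℂ))) =
        (fun z => if z = 1 then (Nat.card E : ℂ) else 0) -
          (Nat.card E : ℂ) • (trivChar E : E → ℂ) := by
      funext z
      have h1 : Fintype.card (Cfsg.IrrCharacter E) = Nat.card E := by
        have := hcards
        rw [hs, Finset.card_erase_of_mem (Finset.mem_univ _), Finset.card_univ] at this
        have h2 : 0 < Fintype.card (Cfsg.IrrCharacter E) := Fintype.card_pos_iff.2 ⟨trivChar E⟩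
        have h3 : 0 < Nat.card E := Nat.card_pos
        omega
      simp [Finset.sum_apply, Finset.sum_sub_distrib, hreg, h1]
    simp only [virt]
    rw [← indFun_sum, hfun, frobenius_reciprocity E _ (IsIrr.isClassFunction χ.2),
      classInner_sub_left, classInner_smul_left, ha]
    congr 1
    simp only [Cfsg.classInner, ite_mul, zero_mul, Finset.sum_ite_eq', Finset.mem_univ, if_true,
      Subgroup.coe_one, hχ, Complex.conj_natCast]
    rw [← mul_assoc, inv_mul_cancel₀ (Nat.cast_ne_zero.mpr Nat.card_pos.ne'), one_mul]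
  have hsum' : ∑ φ ∈ s, m φ = (p : ℤ) - Nat.card E * a := by exact_mod_cast hsum
  have heven' : (2 : ℤ) ∣ ∑ φ ∈ s, m φ := by
    rw [← Int.cast_sum] at heven
    exact_mod_cast (ZMod.intCast_zmod_eq_zero_iff_dvd _ 2).1 heven
  have hlo : -(s.card : ℤ) ≤ ∑ φ ∈ s, m φ := by
    have := Finset.card_nsmul_le_sum s m (-1) fun φ hφ => (hbound φ (Finset.mem_erase.1 hφ).1).1
    simpa using this
  have hhi : ∑ φ ∈ s, m φ ≤ s.card := by
    have := Finset.sum_le_card_nsmul s m 1 fun φ hφ => (hbound φ (Finset.mem_erase.1 hφ).1).2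
    simpa using this
  obtain ⟨k, hk⟩ := card_dvd_pred h
  have hp' : (p : ℤ) = Nat.card E * k + 1 := by
    have : p = Nat.card E * k + 1 := by have := hp.two_le; omega
    exact_mod_cast this
  rw [hcards] at hlo hhi
  set e : ℤ := (Nat.card E : ℤ) with he
  have he0 : 0 < e := by rw [he]; exact_mod_cast Nat.card_pos
  set j : ℤ := (k : ℤ) - a with hj
  have hval : ∑ φ ∈ s, m φ = e * j + 1 := by rw [hsum', hp', hj]; ring
  have hall : ∑ φ ∈ s, m φ = -(e - 1) := by
    rw [hval] at hlo hhi heven' ⊢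
    have h1 : -1 ≤ j := by nlinarith
    have h2 : j ≤ 0 := by
      by_contra h2
      nlinarith
    rcases (show j = -1 ∨ j = 0 by omega) with h3 | h3
    · rw [h3]; ring
    · rw [h3, mul_zero, zero_add] at heven'
      norm_num at heven'
  have hzero : ∑ φ ∈ s, (m φ + 1) = 0 := by
    rw [Finset.sum_add_distrib, hall, Finset.sum_const, nsmul_one, hcards]
    ring
  have h1 := (Finset.sum_eq_zero_iff_of_nonneg (fun φ hφ => by
    have := (hbound φ (Finset.mem_erase.1 hφ).1).1; omega)).1 hzero θ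
    (Finset.mem_erase.2 ⟨hθ, Finset.mem_univ θ⟩)
  rw [hm, show m θ = -1 by omega, Int.cast_neg, Int.cast_one]

/-- The character of degree `p` is `1` on the nontrivial elements of `E`. -/
theorem deg_apply_eq_one (h : Hyp G P E) (hodd : Odd (Nat.card E)) (χ : Cfsg.IrrCharacter G)
    (hχ : (χ : G → ℂ) 1 = p) {z : E} (hz : z ≠ 1) : (χ : G → ℂ) (z : G) = 1 := by
  have : Fintype (Cfsg.IrrCharacter E) := Fintype.ofFinite _
  set f : E → ℂ := fun w => (χ : G → ℂ) w with hf
  have hfc : Cfsg.IsClassFunction E f :=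
    IsChar.isClassFunction (IsChar.restrict E (IsIrr.isCharacter χ.2))
  set a := Cfsg.classInner (trivChar E : E → ℂ) f with ha
  have hcoef : ∀ φ : Cfsg.IrrCharacter E, φ ≠ trivChar E →
      Cfsg.classInner (φ : E → ℂ) f = a - 1 := fun φ hφ => by
    have h1 := classInner_virt_deg h hodd χ hχ hφ
    rw [virt, frobenius_reciprocity E _ (IsIrr.isClassFunction χ.2), classInner_sub_left] at h1
    linear_combination h1
  have hreal : ∀ φ : Cfsg.IrrCharacter E,
      Cfsg.classInner f (φ : E → ℂ) = Cfsg.classInner (φ : E → ℂ) f := fun φ => by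
    obtain ⟨n, hn⟩ := IsChar.classInner_eq_natCast (IsIrr.isCharacter φ.2)
      (IsChar.restrict E (IsIrr.isCharacter χ.2))
    rw [← classInner_conj_symm, hn, Complex.conj_natCast]
  have hval := classFunction_apply_eq_sum hfc z
  show f z = 1
  rw [hval, ← Finset.add_sum_erase _ _ (Finset.mem_univ (trivChar E))]
  rw [Finset.sum_congr rfl fun φ hφ => by rw [hreal, hcoef φ (Finset.mem_erase.1 hφ).1],
    ← Finset.mul_sum, hreal, ← ha]
  have h0 : ∑ φ : Cfsg.IrrCharacter E, (φ : E → ℂ) z = 0 := by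
    rw [← sum_degree_mul_apply_of_ne_one hz]
    exact Finset.sum_congr rfl fun φ _ => by
      rw [CfsgLib.Clifford.apply_one_eq_one_of_commute
        (fun a b : E => Subtype.ext (E_comm h a.2 b.2)), one_mul]
  rw [← Finset.add_sum_erase _ _ (Finset.mem_univ (trivChar E))] at h0
  simp only [trivChar_apply] at h0 ⊢
  linear_combination (a - 1) * h0

/-- The irreducible character of degree `p + 1` attached to a linear character of `E`. -/
theorem exists_char (h : Hyp G P E) (hodd : Odd (Nat.card E)) {θ : Cfsg.IrrCharacter E}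
    (hθ : θ ≠ trivChar E) : ∃ X : Cfsg.IrrCharacter G, (X : G → ℂ) 1 = (p + 1 : ℕ) ∧
      (∀ g, (X : G → ℂ) g⁻¹ = (X : G → ℂ) g) ∧
      ∀ z : E, z ≠ 1 → (X : G → ℂ) (z : G) = (θ : E → ℂ) z + (θ : E → ℂ) z⁻¹ := by
  have hp : p.Prime := Fact.out
  obtain ⟨χ, hχd, huniq⟩ := h.uniq
  have hχ : (χ : G → ℂ) 1 = p := by rw [← cast_irrDegree χ, hχd]
  have hχr : ∀ g, (χ : G → ℂ) g⁻¹ = (χ : G → ℂ) g := fun g => by
    rw [IsIrr.map_inv χ.2]
    have hc : Cfsg.IsIrrCharacter G fun g => conj ((χ : G → ℂ) g) := by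
      refine IsChar.isIrr_of_classInner_eq_one (IsChar.conj (IsIrr.isCharacter χ.2)) ?_
      rw [← classInner_irr_self χ]
      simp only [Cfsg.classInner, RingHomCompTriple.comp_apply, RingHom.id_apply, mul_comm]
    have heq : (⟨_, hc⟩ : Cfsg.IrrCharacter G) = χ := huniq _ (charDegree_eq_of_apply_one
      (by show conj ((χ : G → ℂ) 1) = _; rw [hχ, Complex.conj_natCast]))
    exact congrFun (congrArg Subtype.val heq) g
  set X : G → ℂ := virt θ + (trivChar G : G → ℂ) + (χ : G → ℂ) with hX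
  have hne : χ ≠ trivChar G := fun h1 => by
    rw [h1, trivChar_apply] at hχ
    exact hp.one_lt.ne (by exact_mod_cast hχ)
  have hv1 : Cfsg.classInner (virt (G := G) θ) (trivChar G : G → ℂ) = -1 := classInner_virt_one h hθ
  have hvχ := classInner_virt_deg h hodd χ hχ hθ
  have hnorm : Cfsg.classInner X X = 1 := by
    simp only [hX, classInner_add_left, classInner_add_right, classInner_virt_self h hodd hθ, hv1,
      hvχ, classInner_irr_self, classInner_irr_of_ne hne, classInner_irr_of_ne hne.symm]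
    rw [← classInner_conj_symm (φ := virt θ) (ψ := (trivChar G : G → ℂ)), hv1,
      ← classInner_conj_symm (φ := virt θ) (ψ := (χ : G → ℂ)), hvχ]
    norm_num
  have hX1 : X 1 = (p + 1 : ℕ) := by
    rw [hX, Pi.add_apply, Pi.add_apply, virt_apply_one h, trivChar_apply, hχ]
    push_cast
    ring
  have hirr : Cfsg.IsIrrCharacter G X :=
    IsGen.isIrr_of_norm_one (IsGen.add (IsGen.add (isGen_virt θ) (IsGen.of_irr (trivChar G).2))
      (IsGen.of_irr χ.2)) hnorm (by rw [hX1, Complex.natCast_re]; positivity)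
  refine ⟨⟨X, hirr⟩, hX1, fun g => ?_, fun z hz => ?_⟩
  · simp only [hX, Pi.add_apply, virt_real h hodd, hχr, trivChar_apply]
  · simp only [hX, Pi.add_apply, virt_apply h hodd, deg_apply_eq_one h hodd χ hχ hz,
      trivChar_apply]
    ring

end Fintype

end CfsgLib.Perm.UniqueDegreeP
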