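import Cfsg.Agent.Lib.Perm.UniqueDegreeP.Weight
import Mathlib.LinearAlgebra.BilinearForm.Properties
import Mathlib.LinearAlgebra.Matrix.BilinearForm
import Mathlib.LinearAlgebra.Matrix.Adjugate
import Mathlib.LinearAlgebra.Determinant
import Mathlib.FieldTheory.IsAlgClosed.Basic

/-!
# Rotations of a three-dimensional orthogonal space

An element of finite order prime to the characteristic of the special orthogonal group in
dimension three, other than the identity, fixes exactly two isotropic lines and is not trivial on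
either of them.
-/

set_option autoImplicit false

namespace CfsgLib.Perm.UniqueDegreeP

open Weight (eig proj mem_eig proj_mem proj_eig)
open scoped _root_.Classical

variable {k : Type*} [Field k] {V : Type*} [AddCommGroup V] [Module k V] [FiniteDimensional k V]

theorem det_eq_mul_of_eigen (T : Module.End k V) (hdim : Module.finrank k V = 3) {v : Fin 3 → V}
    (hli : LinearIndependent k v) {c : Fin 3 → k} (hv : ∀ i, T (v i) = c i • v i) :
    LinearMap.det T = ∏ i, c i := by
  have hcard : Fintype.card (Fin 3) = Module.finrank k V := by rw [hdim, Fintype.card_fin]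
  set b := basisOfLinearIndependentOfCardEqFinrank hli hcard with hb
  have hmat : LinearMap.toMatrix b b T = Matrix.diagonal c := by
    ext i j
    rw [LinearMap.toMatrix_apply, hb, coe_basisOfLinearIndependentOfCardEqFinrank, hv, map_smul]
    have : b.repr (v j) = Finsupp.single j 1 := by
      rw [← congrFun (coe_basisOfLinearIndependentOfCardEqFinrank hli hcard) j, ← hb, b.repr_self]
    rw [← hb, this]
    by_cases hij : i = j
    · subst hij; simp
    · simp [Matrix.diagonal_apply_ne _ hij, Finsupp.single_eq_of_ne hij]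
  rw [← LinearMap.det_toMatrix b, hmat, Matrix.det_diagonal]

variable [IsAlgClosed k]

/-- The two isotropic eigenlines of a rotation. -/
theorem exists_two_lines (h2 : (2 : k) ≠ 0) (hdim : Module.finrank k V = 3)
    (B : LinearMap.BilinForm k V) (hsymm : ∀ x y, B x y = B y x)
    (hnd : ∀ x, (∀ y, B x y = 0) → x = 0) (T : Module.End k V)
    (hTB : ∀ x y, B (T x) (T y) = B x y) (hdet : LinearMap.det T = 1) {n : ℕ} (hn : 0 < n)
    (hn' : (n : k) ≠ 0) (hTn : T ^ n = 1) (hT1 : T ≠ 1) :
    ∃ u w : V, u ≠ 0 ∧ w ≠ 0 ∧ Submodule.span k {u} ≠ Submodule.span k {w} ∧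
      B u u = 0 ∧ B w w = 0 ∧ T u ∈ Submodule.span k {u} ∧ T w ∈ Submodule.span k {w} ∧
      ∀ v : V, v ≠ 0 → B v v = 0 → T v ∈ Submodule.span k {v} →
        (v ∈ Submodule.span k {u} ∨ v ∈ Submodule.span k {w}) ∧ T v ≠ v := by
  have hTinj : Function.Injective T := fun x y hxy => by
    refine sub_eq_zero.1 (hnd _ fun z => ?_)
    rw [← hTB, map_sub, hxy, sub_self, map_zero, LinearMap.zero_apply]
  -- a fixed vector
  obtain ⟨a, ha, ha0⟩ : ∃ a ∈ eig T (1 : k), a ≠ 0 := by
    set b := Module.finBasisOfFinrankEq k V hdim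
    set M := LinearMap.BilinForm.toMatrix b B with hM
    set A := LinearMap.toMatrix b b T with hA
    have hAM : A.transpose * M * A = M := by
      rw [hA, hM, ← LinearMap.BilinForm.toMatrix_comp]
      congr 1
      exact LinearMap.ext₂ fun x y => hTB x y
    have hM0 : M.det ≠ 0 := by
      intro h0
      obtain ⟨c, hc, hc0⟩ := Matrix.exists_vecMul_eq_zero_iff.2 h0
      refine hc ?_
      have hz := hnd (∑ i, c i • b i) (fun y => by
        rw [← b.sum_repr y]
        simp only [map_sum, map_smul, LinearMap.sum_apply, LinearMap.smul_apply, smul_eq_mul]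
        refine Finset.sum_eq_zero fun j _ => ?_
        have h4 := congrFun hc0 j
        rw [Matrix.vecMul, dotProduct] at h4
        simp only [hM, LinearMap.BilinForm.toMatrix_apply, Pi.zero_apply] at h4
        rw [h4, mul_zero])
      exact funext fun i => Fintype.linearIndependent_iff.1 b.linearIndependent c hz i
    have hdetA : A.det = 1 := by rw [hA, LinearMap.det_toMatrix, hdet]
    have hA1 : (A - 1).det = 0 := by
      have h1 : A.transpose * M * (A - 1) = -((A - 1).transpose * M) := by
        rw [mul_sub, hAM, mul_one, Matrix.transpose_sub, Matrix.transpose_one, sub_mul, one_mul,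
          neg_sub]
      have h3 := congrArg Matrix.det h1
      rw [Matrix.det_mul, Matrix.det_mul, Matrix.det_neg, Matrix.det_mul, Matrix.det_transpose,
        Matrix.det_transpose, hdetA, Fintype.card_fin] at h3
      have h4 : (2 : k) * (M.det * (A - 1).det) = 0 := by linear_combination h3
      exact (mul_eq_zero.1 ((mul_eq_zero.1 h4).resolve_left h2)).resolve_left hM0
    have hdet0 : LinearMap.det (T - 1) = 0 := by
      rw [← LinearMap.det_toMatrix b, map_sub, LinearMap.toMatrix_one, ← hA, hA1]
    obtain ⟨a, ha, ha0⟩ := Submodule.exists_mem_ne_zero_of_ne_bot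
      (bot_lt_iff_ne_bot.1 (LinearMap.bot_lt_ker_of_det_eq_zero hdet0))
    exact ⟨a, by rw [eig, one_smul]; exact ha, ha0⟩
  set Pj := proj T n (1 : k) with hPj
  have hPmem : ∀ x, Pj x ∈ eig T (1 : k) := proj_mem hTn (one_pow n) hn
  have hPfix : ∀ x ∈ eig T (1 : k), Pj x = x := fun x hx => proj_eig hn' one_ne_zero hx
  have hfix : ∀ x ∈ eig T (1 : k), T x = x := fun x hx => by
    simpa using (mem_eig T).1 hx
  have hBP : ∀ x ∈ eig T (1 : k), ∀ y, B x (Pj y) = B x y := fun x hx y => by
    have hi : ∀ i, B x ((T ^ i) y) = B x y := by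
      intro i
      induction i with
      | zero => simp
      | succ i ih =>
        rw [pow_succ', Module.End.mul_apply]
        conv_lhs => rw [← hfix x hx]
        rw [hTB, ih]
    rw [hPj, proj]
    simp only [LinearMap.smul_apply, LinearMap.sum_apply, map_smul, map_sum, hi, inv_one, one_pow,
      one_smul, Finset.sum_const, Finset.card_range, nsmul_eq_mul, smul_eq_mul]
    rw [← mul_assoc, inv_mul_cancel₀ hn', one_mul]
  have hnd1 : ∀ x ∈ eig T (1 : k), (∀ z ∈ eig T (1 : k), B x z = 0) → x = 0 := fun x hx h =>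
    hnd x fun y => by rw [← hBP x hx, h _ (hPmem y)]
  -- the fixed space is a line
  have hrank : Module.finrank k (eig T (1 : k)) = 1 := by
    have h1 : Module.finrank k (eig T (1 : k)) ≠ 0 := fun h0 =>
      ha0 ((Submodule.mem_bot k).1 (Submodule.finrank_eq_zero.1 h0 ▸ ha))
    have h3 : Module.finrank k (eig T (1 : k)) ≠ 3 := fun h3 => by
      have htop := Submodule.eq_top_of_finrank_eq (h3.trans hdim.symm)
      exact hT1 (LinearMap.ext fun x => by rw [hfix x (htop ▸ Submodule.mem_top), Module.End.one_apply])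
    have hle : Module.finrank k (eig T (1 : k)) ≤ 3 := hdim ▸ Submodule.finrank_le _
    by_contra hne
    have hr : Module.finrank k (eig T (1 : k)) = 2 := by omega
    set K := LinearMap.ker Pj
    have hKr : Module.finrank k K = 1 := by
      have h4 := LinearMap.finrank_range_add_finrank_ker Pj
      have h5 : LinearMap.range Pj = eig T (1 : k) := le_antisymm
        (by rintro _ ⟨x, rfl⟩; exact hPmem x) fun x hx => ⟨x, hPfix x hx⟩
      rw [h5, hr, hdim] at h4
      show Module.finrank k (LinearMap.ker Pj) = 1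
      omega
    obtain ⟨z, hz, hz0⟩ := Submodule.exists_mem_ne_zero_of_ne_bot
      (fun h0 : K = ⊥ => by rw [h0] at hKr; simp at hKr)
    have hcom : Pj * T = T * Pj := by
      rw [hPj, proj]
      simp only [smul_mul_assoc, mul_smul_comm, Finset.sum_mul, Finset.mul_sum, ← pow_succ,
        ← pow_succ']
    have hKspan : ∀ x ∈ K, ∃ c : k, c • z = x := fun x hx => by
      obtain ⟨c, hc⟩ := (finrank_eq_one_iff_of_nonzero' (⟨z, hz⟩ : K)
        (fun h0 => hz0 (congrArg Subtype.val h0))).1 hKr ⟨x, hx⟩
      exact ⟨c, congrArg Subtype.val hc⟩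
    have hTz : T z ∈ K := by
      show Pj (T z) = 0
      rw [← Module.End.mul_apply, hcom, Module.End.mul_apply, LinearMap.mem_ker.1 hz, map_zero]
    obtain ⟨c, hc⟩ := hKspan _ hTz
    have horth : ∀ x ∈ eig T (1 : k), B x z = 0 := fun x hx => by
      rw [← hBP x hx, LinearMap.mem_ker.1 hz, map_zero]
    have hzz : B z z ≠ 0 := fun h0 => hz0 (hnd z fun y => by
      obtain ⟨d, hd⟩ := hKspan (y - Pj y) (by
        show Pj (y - Pj y) = 0
        rw [map_sub, hPfix _ (hPmem y), sub_self])
      rw [show y = d • z + Pj y by rw [hd, sub_add_cancel], map_add, map_smul, h0, smul_zero,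
        zero_add, hsymm, horth _ (hPmem y)])
    have hc2 : (c - 1) * (c + 1) = 0 := by
      have h4 := hTB z z
      rw [← hc] at h4
      simp only [map_smul, LinearMap.smul_apply, smul_eq_mul] at h4
      exact mul_right_cancel₀ hzz (by linear_combination h4)
    rcases mul_eq_zero.1 hc2 with hc1 | hc1
    · have hzf : z ∈ eig T (1 : k) := by
        rw [mem_eig, ← hc, show c = 1 from sub_eq_zero.1 hc1]
      exact hz0 ((hPfix z hzf).symm.trans (LinearMap.mem_ker.1 hz))
    · set bb := Module.finBasisOfFinrankEq k (eig T (1 : k)) hr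
      have hli : LinearIndependent k ![z, (bb 0 : V), (bb 1 : V)] := by
        rw [Fintype.linearIndependent_iff]
        intro g hg
        rw [Fin.sum_univ_three] at hg
        have h6 := congrArg Pj hg
        simp only [Matrix.cons_val_zero, Matrix.cons_val_one, Matrix.cons_val_two, Matrix.head_cons,
          Matrix.tail_cons, map_add, map_smul, LinearMap.mem_ker.1 hz, smul_zero, zero_add,
          hPfix _ (bb 0).2, hPfix _ (bb 1).2, map_zero] at h6 hg
        rw [add_assoc, h6, add_zero] at hg
        have h7 := Fintype.linearIndependent_iff.1 bb.linearIndependent ![g 1, g 2]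
          (Subtype.ext (by simpa [Fin.sum_univ_two] using h6))
        intro i
        fin_cases i
        · exact (smul_eq_zero.1 hg).resolve_right hz0
        · exact h7 0
        · exact h7 1
      have h5 := det_eq_mul_of_eigen T hdim hli (c := ![c, 1, 1]) (fun i => by
        fin_cases i
        · exact hc.symm
        · simp [hfix _ (bb 0).2]
        · simp [hfix _ (bb 1).2])
      rw [hdet, Fin.prod_univ_three] at h5
      simp at h5
      exact h2 (by linear_combination hc1 + h5)
  have haspan : ∀ x ∈ eig T (1 : k), ∃ c : k, c • a = x := fun x hx => by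
    obtain ⟨c, hc⟩ := (finrank_eq_one_iff_of_nonzero' (⟨a, ha⟩ : eig T (1 : k))
      (fun h0 => ha0 (congrArg Subtype.val h0))).1 hrank ⟨x, hx⟩
    exact ⟨c, congrArg Subtype.val hc⟩
  have haa : B a a ≠ 0 := fun h0 => ha0 (hnd1 a ha fun z hz => by
    obtain ⟨c, rfl⟩ := haspan z hz
    rw [map_smul, h0, smul_zero])
  have hnofix : ∀ x, B a x = 0 → T x = x → x = 0 := fun x hx hTx => by
    obtain ⟨c, rfl⟩ := haspan x ((mem_eig T).2 (by rw [hTx, one_smul]))
    rw [map_smul, smul_eq_mul] at hx
    rw [(mul_eq_zero.1 hx).resolve_right haa, zero_smul]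
  -- the orthogonal plane
  set W := LinearMap.ker (B a) with hW
  have hWr : Module.finrank k W = 2 := by
    have h4 := LinearMap.finrank_range_add_finrank_ker (B a)
    rw [LinearMap.range_eq_top.2 (LinearMap.surjective (fun h0 => haa (by rw [h0]; rfl))),
      finrank_top, Module.finrank_self, hdim] at h4
    rw [hW]
    omega
  have hTW : ∀ x ∈ W, T x ∈ W := fun x hx => by
    show B a (T x) = 0
    rw [← hfix a ha, hTB]
    exact hx
  obtain ⟨u, huW, hu0, huu⟩ : ∃ u ∈ W, u ≠ 0 ∧ B u u = 0 := by
    set bb := Module.finBasisOfFinrankEq k W hWr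
    by_cases hxx : B (bb 0 : V) (bb 0 : V) = 0
    · exact ⟨_, (bb 0).2, fun h0 => bb.ne_zero 0 (Subtype.ext h0), hxx⟩
    obtain ⟨s, hs⟩ := IsAlgClosed.exists_eq_mul_self
      (B (bb 0 : V) (bb 1 : V) ^ 2 - B (bb 0 : V) (bb 0 : V) * B (bb 1 : V) (bb 1 : V))
    set t := (-B (bb 0 : V) (bb 1 : V) + s) / B (bb 0 : V) (bb 0 : V) with ht
    refine ⟨(bb 1 : V) + t • (bb 0 : V), add_mem (bb 1).2 (W.smul_mem t (bb 0).2), fun h0 => ?_, ?_⟩
    · have h7 := Fintype.linearIndependent_iff.1 bb.linearIndependent ![t, 1]
        (Subtype.ext (by simpa [Fin.sum_univ_two, add_comm] using h0)) 1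
      simp at h7
    · simp only [map_add, map_smul, LinearMap.add_apply, LinearMap.smul_apply, smul_eq_mul,
        hsymm (bb 1 : V) (bb 0 : V)]
      rw [ht]
      field_simp
      linear_combination -hs
  obtain ⟨y, hyW, hy⟩ : ∃ y ∈ W, B u y ≠ 0 := by
    by_contra hno
    push Not at hno
    refine hu0 (hnd u fun x => ?_)
    have hmem : x - (B a x / B a a) • a ∈ W := by
      show B a (x - (B a x / B a a) • a) = 0
      rw [map_sub, map_smul, smul_eq_mul, div_mul_cancel₀ _ haa, sub_self]
    have h8 := hno _ hmem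
    rw [map_sub, map_smul, hsymm u a, show B a u = 0 from huW, smul_zero, sub_zero] at h8
    exact h8
  set y' := (B u y)⁻¹ • y with hy'
  have huy : B u y' = 1 := by rw [hy', map_smul, smul_eq_mul, inv_mul_cancel₀ hy]
  set w := y' - (B y' y' / 2) • u with hw
  have hwW : w ∈ W := sub_mem (W.smul_mem _ hyW) (W.smul_mem _ huW)
  have huw : B u w = 1 := by
    rw [hw, map_sub, map_smul (B u) (B y' y' / 2) u, huu, smul_zero, sub_zero, huy]
  have hww : B w w = 0 := by
    have h4 : B y' u = 1 := by rw [hsymm, huy]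
    simp only [hw, map_sub, map_smul, LinearMap.sub_apply, LinearMap.smul_apply, smul_eq_mul, huu,
      huy, h4]
    field_simp
    ring
  have hw0 : w ≠ 0 := fun h0 => by rw [h0, map_zero] at huw; exact zero_ne_one huw
  have hne : Submodule.span k {u} ≠ Submodule.span k {w} := fun h0 => by
    obtain ⟨c, hc⟩ := Submodule.mem_span_singleton.1 (h0 ▸ Submodule.mem_span_singleton_self u)
    rw [← hc, map_smul, LinearMap.smul_apply, hww, smul_zero] at huw
    exact zero_ne_one huw
  have hiso : ∀ x ∈ W, B x x = 0 → x ∈ Submodule.span k {u} ∨ x ∈ Submodule.span k {w} := by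
    intro x hx hxx
    have hli : LinearIndependent k ![(⟨u, huW⟩ : W), ⟨w, hwW⟩] := by
      rw [LinearIndependent.pair_iff]
      intro s t hst
      have h4 : s • u + t • w = 0 := by simpa using congrArg Subtype.val hst
      have h5 := congrArg (B u) h4
      simp only [map_add, map_smul, huu, huw, smul_eq_mul, mul_zero, zero_add, mul_one, map_zero] at h5
      rw [h5, zero_smul, add_zero] at h4
      exact ⟨(smul_eq_zero.1 h4).resolve_right hu0, h5⟩
    obtain ⟨g, hg⟩ : ∃ g : Fin 2 → k, g 0 • u + g 1 • w = x := by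
      have hcard : Fintype.card (Fin 2) = Module.finrank k W := by rw [hWr, Fintype.card_fin]
      set b2 := basisOfLinearIndependentOfCardEqFinrank hli hcard
      refine ⟨fun i => b2.repr ⟨x, hx⟩ i, ?_⟩
      have h4 := congrArg Subtype.val (b2.sum_repr ⟨x, hx⟩)
      simpa [Fin.sum_univ_two, b2] using h4
    rw [← hg] at hxx ⊢
    simp only [map_add, map_smul, LinearMap.add_apply, LinearMap.smul_apply, smul_eq_mul, huu, hww,
      huw, hsymm w u] at hxx
    have h4 : (2 : k) * (g 0 * g 1) = 0 := by linear_combination hxx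
    rcases mul_eq_zero.1 ((mul_eq_zero.1 h4).resolve_left h2) with h5 | h5
    · exact Or.inr (by rw [h5, zero_smul, zero_add]; exact Submodule.smul_mem _ _ (Submodule.mem_span_singleton_self w))
    · exact Or.inl (by rw [h5, zero_smul, add_zero]; exact Submodule.smul_mem _ _ (Submodule.mem_span_singleton_self u))
  have hstep : ∀ u' w' : V, u' ∈ W → w' ∈ W → u' ≠ 0 → B u' u' = 0 → B w' w' = 0 → B u' w' = 1 →
      (∀ x ∈ W, B x x = 0 → x ∈ Submodule.span k {u'} ∨ x ∈ Submodule.span k {w'}) →
      T u' ∈ Submodule.span k {u'} := by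
    intro u' w' hu' hw' hu0' huu' hww' huw' hiso'
    rcases hiso' _ (hTW u' hu') (by rw [hTB, huu']) with h4 | h4
    · exact h4
    obtain ⟨c, hc⟩ := Submodule.mem_span_singleton.1 h4
    have hne' : ∀ t : k, t • w' ≠ u' := fun t ht => by
      rw [← ht, map_smul, LinearMap.smul_apply, hww', smul_zero] at huw'
      exact zero_ne_one huw'
    rcases hiso' _ (hTW w' hw') (by rw [hTB, hww']) with h5 | h5
    · obtain ⟨d, hd⟩ := Submodule.mem_span_singleton.1 h5
      have hcd : c * d = 1 := by
        have h6 := hTB u' w'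
        rw [← hc, ← hd] at h6
        simp only [map_smul, LinearMap.smul_apply, smul_eq_mul, hsymm w' u', huw'] at h6
        linear_combination h6
      have h7 : T (u' + T u') = u' + T u' := by
        rw [map_add, add_comm]
        congr 1
        rw [← hc, map_smul, ← hd, smul_smul, hcd, one_smul]
      have h8 := hnofix _ (add_mem hu' (hTW u' hu')) h7
      exfalso
      refine hne' (-c) ?_
      rw [neg_smul, hc]
      exact (eq_neg_of_add_eq_zero_left h8).symm
    · obtain ⟨d, hd⟩ := Submodule.mem_span_singleton.1 h5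
      exfalso
      have hd0 : d ≠ 0 := fun h0 => by
        rw [h0, zero_smul] at hd
        have h9 : w' = 0 := hTinj (hd.symm.trans (map_zero T).symm)
        rw [h9, map_zero] at huw'
        exact zero_ne_one huw'
      refine hne' (c / d) (hTinj ?_)
      rw [map_smul, ← hd, smul_smul, div_mul_cancel₀ _ hd0, hc]
  have hTu := hstep u w huW hwW hu0 huu hww huw hiso
  have hTw := hstep w u hwW huW hw0 hww huu (by rw [hsymm, huw]) fun x hx hxx => (hiso x hx hxx).symm
  refine ⟨u, w, hu0, hw0, hne, huu, hww, hTu, hTw, fun v hv0 hvv hTv => ?_⟩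
  obtain ⟨μ, hμ⟩ := Submodule.mem_span_singleton.1 hTv
  have hTv1 : T v ≠ v := fun h4 => by
    obtain ⟨c, rfl⟩ := haspan v ((mem_eig T).2 (by rw [h4, one_smul]))
    simp only [map_smul, LinearMap.smul_apply, smul_eq_mul] at hvv
    rcases mul_eq_zero.1 hvv with h5 | h5
    · exact hv0 (by rw [h5, zero_smul])
    rcases mul_eq_zero.1 h5 with h6 | h6
    · exact hv0 (by rw [h6, zero_smul])
    · exact haa h6
  refine ⟨hiso v ?_ hvv, hTv1⟩
  have h5 := hTB a v
  rw [hfix a ha, ← hμ, map_smul, smul_eq_mul] at h5
  have h6 : (μ - 1) * B a v = 0 := by linear_combination h5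
  refine (mul_eq_zero.1 h6).resolve_left fun h7 => hTv1 ?_
  rw [← hμ, sub_eq_zero.1 h7, one_smul]

end CfsgLib.Perm.UniqueDegreeP
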