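import Cfsg.Agent.Lib.Perm.UniqueDegreeP.Basic
import Cfsg.Agent.Lib.Perm.UniqueDegreeP.Weight
import Mathlib.LinearAlgebra.Matrix.ToLin
import Mathlib.Data.Matrix.Mul

/-!
# The case of a complement of odd order: a vector generating the heart of the permutation module

A representation of degree `p + 1` with the traces found in `Trace.lean`, or its dual, has a
vector of weight `r` killed by `Σ a σ ^ a` and outside the image of `σ - 1`.
-/

set_option autoImplicit false

namespace CfsgLib.Perm.UniqueDegreeP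

open CfsgLib.Perm.PrimeDegree (ι)
open Weight Matrix
open scoped _root_.Classical

variable {α : Type*} [Fintype α] [DecidableEq α] {p : ℕ} [Fact p.Prime]
variable {G : Subgroup (Equiv.Perm α)} {P : Sylow p G} {E : Subgroup G}
variable {k : Type*} [Field k] [CharP k p] {m : ℕ}

/-- The representation given by matrices. -/
noncomputable def matRep (R : G →* Matrix (Fin m) (Fin m) k) : Representation k G (Fin m → k) :=
  Matrix.toLinAlgEquiv'.toAlgHom.toRingHom.toMonoidHom.comp R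

theorem matRep_apply (R : G →* Matrix (Fin m) (Fin m) k) (g : G) (v : Fin m → k) :
    matRep R g v = R g *ᵥ v := rfl

theorem trace_matRep (R : G →* Matrix (Fin m) (Fin m) k) (g : G) :
    LinearMap.trace k _ (matRep R g) = (R g).trace := by
  show LinearMap.trace k _ (Matrix.toLin' (R g)) = _
  rw [Matrix.trace_toLin'_eq]

/-- The dual representation. -/
noncomputable def dualMat (R : G →* Matrix (Fin m) (Fin m) k) :
    G →* Matrix (Fin m) (Fin m) k where
  toFun g := (R g⁻¹)ᵀ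
  map_one' := by simp
  map_mul' a b := by rw [_root_.mul_inv_rev, map_mul, Matrix.transpose_mul]

/-- The trace conditions. -/
structure Traces (F : Frame G P E) (R : G →* Matrix (Fin m) (Fin m) k) : Prop where
  dim : m = p + 1
  inv : ∀ g, (R g⁻¹).trace = (R g).trace
  pow : ∀ i : ℕ, ¬ Nat.card E ∣ i →
    (R (F.y ^ i)).trace = ι k F.r ^ i + ι k F.r ^ (i * (Nat.card E - 1))

theorem Traces.dual {F : Frame G P E} {R : G →* Matrix (Fin m) (Fin m) k} (hR : Traces F R) :
    Traces F (dualMat R) where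
  dim := hR.dim
  inv g := by
    show ((R g⁻¹⁻¹)ᵀ).trace = ((R g⁻¹)ᵀ).trace
    rw [Matrix.trace_transpose, Matrix.trace_transpose, inv_inv, hR.inv]
  pow i hi := by
    show ((R (F.y ^ i)⁻¹)ᵀ).trace = _
    rw [Matrix.trace_transpose, hR.inv, hR.pow i hi]

theorem card_ne_zero_cast (h : Hyp G P E) : (Nat.card E : k) ≠ 0 := by
  rw [Ne, CharP.cast_eq_zero_iff k p]
  intro h1
  have := Nat.le_of_dvd (by have := five_le h; omega) (h1.trans (card_dvd_pred h))
  have := five_le h
  omega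

theorem three_le_card (h : Hyp G P E) (hodd : Odd (Nat.card E)) : 3 ≤ Nat.card E := by
  have h1 : Nat.card E ≠ 1 := fun h1 => E_ne_bot h (Subgroup.card_eq_one.1 h1)
  obtain ⟨j, hj⟩ := hodd
  omega

theorem rho_pow (F : Frame G P E) : ι k F.r ^ Nat.card E = 1 := by
  rw [← map_pow, ← F.orderOf_r, pow_orderOf_eq_one, map_one]

theorem rho_pow_ne_one (F : Frame G P E) {j : ℕ} (hj : ¬ Nat.card E ∣ j) : ι k F.r ^ j ≠ 1 := by
  intro h1
  rw [← map_pow, ← map_one (ι (p := p) k)] at h1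
  exact hj (F.orderOf_r ▸ orderOf_dvd_of_pow_eq_one ((ι (p := p) k).injective h1))

theorem sum_pow_eq_zero {c : k} {e : ℕ} (hc : c ^ e = 1) (hc1 : c ≠ 1) :
    ∑ i ∈ Finset.range e, c ^ i = 0 := by
  have h := mul_geom_sum c e
  rw [hc, sub_self] at h
  exact (mul_eq_zero.1 h).resolve_left (sub_ne_zero.2 hc1)

section Ops

variable (F : Frame G P E) (R : G →* Matrix (Fin m) (Fin m) k)

theorem opU_pow (h : Hyp G P E) : (matRep R F.σ) ^ p = 1 := by
  rw [← map_pow, orderOf_dvd_iff_pow_eq_one.1 (dvd_of_eq (F.coe_orderOf_σ h)), map_one]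

theorem opY_pow : (matRep R F.y) ^ Nat.card E = 1 := by
  rw [← map_pow, ← F.orderOf_y, pow_orderOf_eq_one, map_one]

theorem up_matRep (a : ZMod p) : up (matRep R F.σ) a = matRep R (F.σ ^ a.val) := by
  rw [up, map_pow]

theorem opY_opU : matRep R F.y * matRep R F.σ = up (matRep R F.σ) F.r * matRep R F.y := by
  rw [up_matRep, ← map_mul, ← map_mul, ← F.conj_σ, inv_mul_cancel_right]

theorem weight_lt (h : Hyp G P E) (hodd : Odd (Nat.card E)) (hR : Traces F R) :
    Module.finrank k (eig (matRep R F.y) (1 : k)) <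
      Module.finrank k (eig (matRep R F.y) (ι k F.r)) := by
  set Y := matRep R F.y with hYdef
  set e := Nat.card E with he
  set ρ := ι k F.r with hρ
  have he0 : 0 < e := Nat.card_pos
  have he3 := three_le_card h hodd
  have hY : Y ^ e = 1 := opY_pow F R
  have hρ0 : ρ ≠ 0 := by simpa [hρ] using F.r_ne_zero
  have hρe : ρ ^ e = 1 := rho_pow F
  have hne1 : ¬ e ∣ 1 := fun h1 => by have := Nat.le_of_dvd one_pos h1; omega
  have hne2 : ¬ e ∣ 2 := fun h1 => by have := Nat.le_of_dvd two_pos h1; omega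
  have hρ1 : ρ ≠ 1 := by simpa using rho_pow_ne_one (k := k) F hne1
  have hinv : ρ⁻¹ = ρ ^ (e - 1) := inv_eq_of_mul_eq_one_right (by
    rw [← pow_succ', show e - 1 + 1 = e by omega, hρe])
  have hρi : ρ⁻¹ ≠ 1 := fun h1 => hρ1 (inv_eq_one.1 h1)
  have hρi2 : ρ⁻¹ * ρ⁻¹ ≠ 1 := fun h1 => rho_pow_ne_one (k := k) F hne2 (by
    rw [← hρ, pow_two]; rwa [← mul_inv, inv_eq_one] at h1)
  have htr : ∀ i ∈ Finset.range e, LinearMap.trace k _ (Y ^ i) =
      ρ ^ i + (ρ⁻¹) ^ i + (if i = 0 then -1 else 0) := by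
    intro i hi
    rw [hYdef, ← map_pow, trace_matRep]
    split_ifs with h0
    · subst h0
      rw [pow_zero, pow_zero, pow_zero, map_one, Matrix.trace_one, Fintype.card_fin, hR.dim,
        Nat.cast_succ, CharP.cast_eq_zero]
      ring
    · rw [hR.pow i fun h1 => by
          have := Nat.le_of_dvd (Nat.pos_of_ne_zero h0) h1
          rw [Finset.mem_range] at hi
          omega,
        add_zero, hinv, ← pow_mul, mul_comm i]
  have heq : ∀ μ : k, μ ^ e = 1 → (e : k) * (Module.finrank k (eig Y μ) : k) =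
      ∑ i ∈ Finset.range e, (μ⁻¹ * ρ) ^ i + ∑ i ∈ Finset.range e, (μ⁻¹ * ρ⁻¹) ^ i - 1 := by
    intro μ hμ
    rw [finrank_eig hY hμ he0 (card_ne_zero_cast h), Finset.sum_congr rfl fun i hi => by
      rw [htr i hi, mul_add, mul_add, ← mul_pow, ← mul_pow], Finset.sum_add_distrib,
      Finset.sum_add_distrib]
    simp only [mul_ite, mul_neg, mul_one, mul_zero, Finset.sum_ite_eq', Finset.mem_range, he0,
      if_true, pow_zero]
    ring
  have h1 := heq 1 (one_pow _)
  rw [inv_one, one_mul, one_mul, sum_pow_eq_zero hρe hρ1,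
    sum_pow_eq_zero (by rw [inv_pow, hρe, inv_one]) hρi] at h1
  have h2 := heq ρ hρe
  rw [inv_mul_cancel₀ hρ0, sum_pow_eq_zero (by rw [mul_pow, inv_pow, hρe, inv_one, one_mul]) hρi2]
    at h2
  simp only [one_pow, Finset.sum_const, Finset.card_range, nsmul_eq_mul, mul_one] at h2
  obtain ⟨a, ha⟩ := card_dvd_pred h
  rw [← he] at ha
  have hp5 := five_le h
  set d1 := Module.finrank k (eig Y (1 : k))
  set d2 := Module.finrank k (eig Y ρ)
  have hak : (e : k) * (a : k) = -1 := by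
    rw [← Nat.cast_mul, ← ha, Nat.cast_sub (by omega), CharP.cast_eq_zero, Nat.cast_one, zero_sub]
  have hm1 : d1 % p = a % p := by
    rw [← Nat.ModEq, ← CharP.natCast_eq_natCast k p]
    refine mul_left_cancel₀ (card_ne_zero_cast (k := k) h) ?_
    rw [h1, hak]; ring
  have hm2 : d2 % p = (a + 1) % p := by
    rw [← Nat.ModEq, ← CharP.natCast_eq_natCast k p]
    refine mul_left_cancel₀ (card_ne_zero_cast (k := k) h) ?_
    rw [h2, Nat.cast_succ, mul_add, hak]; ring
  have hap : 3 * a ≤ p - 1 := by rw [ha]; exact Nat.mul_le_mul_right a he3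
  have ha0 : 0 < a := Nat.pos_of_ne_zero fun h0 => by rw [h0, mul_zero] at ha; omega
  have hsum : d1 + d2 ≤ p + 1 := by
    have h3 := Submodule.finrank_sup_add_finrank_inf_eq (eig Y (1 : k)) (eig Y ρ)
    rw [eig_inf (Ne.symm hρ1), finrank_bot, add_zero] at h3
    rw [← h3]
    refine (Submodule.finrank_le _).trans ?_
    rw [Module.finrank_fin_fun, hR.dim]
  rw [Nat.mod_eq_of_lt (by omega : a < p)] at hm1
  rw [Nat.mod_eq_of_lt (by omega : a + 1 < p)] at hm2
  rcases Nat.lt_or_ge d1 p with hd | hd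
  · rw [Nat.mod_eq_of_lt hd] at hm1
    have := Nat.mod_le d2 p
    omega
  · have := Nat.mod_add_div d1 p
    have := Nat.mod_le d2 p
    have : 1 ≤ d1 / p := Nat.div_pos hd (by omega)
    have : p ≤ p * (d1 / p) := Nat.le_mul_of_pos_right p (by omega)
    omega

end Ops

/-- The representation or its dual has a good vector. -/
theorem exists_seed (h : Hyp G P E) (hodd : Odd (Nat.card E)) (F : Frame G P E)
    {R : G →* Matrix (Fin m) (Fin m) k} (hR : Traces F R) :
    ∃ (R' : G →* Matrix (Fin m) (Fin m) k) (v : Fin m → k), Traces F R' ∧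
      matRep R' F.y v = ι k F.r • v ∧ opZ p (matRep R' F.σ) v = 0 ∧
      v ∉ LinearMap.range (matRep R' F.σ - 1) := by
  have hp5 := five_le h
  set e := Nat.card E with he
  have he0 : 0 < e := Nat.card_pos
  set ρ := ι k F.r with hρ
  have hρ0 : ρ ≠ 0 := by simpa [hρ] using F.r_ne_zero
  have key : ∀ R' : G →* Matrix (Fin m) (Fin m) k, Traces F R' →
      (∀ v ∈ eig (matRep R' F.y) ρ, opJ p (matRep R' F.σ) v = 0) →
      ∃ v, matRep R' F.y v = ρ • v ∧ opZ p (matRep R' F.σ) v = 0 ∧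
        v ∉ LinearMap.range (matRep R' F.σ - 1) := fun R' hR' hJ => by
    obtain ⟨v, hv, h1, h2⟩ := exists_vector (by omega) (opU_pow F R' h) (opY_pow F R') he0
      (card_ne_zero_cast h) (opY_opU F R') F.r_ne_zero (weight_lt F R' h hodd hR') hJ
    exact ⟨v, (mem_eig _).1 hv, h1, h2⟩
  by_cases hA : ∀ v ∈ eig (matRep R F.y) ρ, opJ p (matRep R F.σ) v = 0
  · obtain ⟨v, hv⟩ := key R hR hA
    exact ⟨R, v, hR, hv⟩
  by_cases hB : ∀ v ∈ eig (matRep (dualMat R) F.y) ρ, opJ p (matRep (dualMat R) F.σ) v = 0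
  · obtain ⟨v, hv⟩ := key (dualMat R) hR.dual hB
    exact ⟨dualMat R, v, hR.dual, hv⟩
  exfalso
  push Not at hA hB
  obtain ⟨v, hv, hv0⟩ := hA
  obtain ⟨f, hf, hf0⟩ := hB
  set J := opJ p (matRep R F.σ) with hJ
  set Y := matRep R F.y with hY
  have hJm : ∀ x, J x = (∑ a : ZMod p, R (F.σ ^ a.val)) *ᵥ x := fun x => by
    rw [hJ, opJ, LinearMap.sum_apply, Matrix.sum_mulVec]
    exact Finset.sum_congr rfl fun a _ => by rw [up_matRep, matRep_apply]
  have hJ' : opJ p (matRep (dualMat R) F.σ) f = (∑ a : ZMod p, R (F.σ ^ a.val))ᵀ *ᵥ f := by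
    rw [opJ, LinearMap.sum_apply, Matrix.transpose_sum, Matrix.sum_mulVec]
    refine Fintype.sum_equiv (Equiv.neg (ZMod p)) _ _ fun a => ?_
    rw [up_matRep, matRep_apply]
    show (R (F.σ ^ a.val)⁻¹)ᵀ *ᵥ f = _
    congr 3
    rw [inv_eq_iff_mul_eq_one, ← pow_add, ← orderOf_dvd_iff_pow_eq_one, F.coe_orderOf_σ h,
      ← ZMod.natCast_eq_zero_iff]
    simp
  -- `f` transforms by `ρ⁻¹` under `Y`
  have hfy : (R F.y)ᵀ *ᵥ f = ρ⁻¹ • f := by
    have h1 : (R F.y⁻¹)ᵀ *ᵥ f = ρ • f := (mem_eig _).1 hf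
    have h2 := congrArg ((R F.y)ᵀ *ᵥ ·) h1
    simp only [Matrix.mulVec_mulVec, ← Matrix.transpose_mul, ← map_mul, inv_mul_cancel, map_one,
      Matrix.transpose_one, Matrix.one_mulVec, Matrix.mulVec_smul] at h2
    conv_rhs => rw [h2]
    rw [smul_smul, inv_mul_cancel₀ hρ0, one_smul]
  have hfY : ∀ (i : ℕ) x, f ⬝ᵥ ((Y ^ i) x) = (ρ⁻¹) ^ i * (f ⬝ᵥ x) := by
    intro i
    induction i with
    | zero => simp
    | succ n ih =>
      intro x
      rw [pow_succ', Module.End.mul_apply, hY, matRep_apply, Matrix.dotProduct_mulVec,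
        ← Matrix.mulVec_transpose, hfy, smul_dotProduct, smul_eq_mul, ← hY, ih, pow_succ']
      ring
  have hfp : ∀ x, f ⬝ᵥ (proj Y e ρ⁻¹ x) = f ⬝ᵥ x := fun x => by
    rw [proj]
    simp only [LinearMap.smul_apply, LinearMap.sum_apply, dotProduct_smul, dotProduct_sum, hfY,
      smul_eq_mul, inv_inv, ← mul_assoc, ← mul_pow, mul_inv_cancel₀ hρ0, one_pow, one_mul,
      Finset.sum_const, Finset.card_range, nsmul_eq_mul]
    rw [he, inv_mul_cancel₀ (card_ne_zero_cast h), one_mul]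
  obtain ⟨w, hw⟩ : ∃ w, f ⬝ᵥ J w ≠ 0 := by
    by_contra hno
    push Not at hno
    refine hf0 (hJ' ▸ dotProduct_eq_zero _ fun x => ?_)
    rw [Matrix.mulVec_transpose, ← Matrix.dotProduct_mulVec, ← hJm, hno]
  set w' := proj Y e ρ⁻¹ w with hw'
  have hconj := conj_opJ (opU_pow F R h) (opY_opU F R) F.r_ne_zero
  have hρinv : (ρ⁻¹) ^ e = 1 := by rw [inv_pow, he, rho_pow, inv_one]
  have hw'J : f ⬝ᵥ J w' ≠ 0 := by
    have h1 : proj Y e ρ⁻¹ (J w) = J w' := by
      rw [hw', ← Module.End.mul_apply, ← Module.End.mul_apply, ← one_mul ρ⁻¹,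
        proj_comp one_ne_zero hconj e, one_mul]
    rwa [← h1, hfp]
  have hJv : J v ∈ eig Y ρ := by simpa using eig_map hconj hv
  have hJw : J w' ∈ eig Y ρ⁻¹ := by
    simpa only [one_mul] using eig_map hconj (proj_mem (opY_pow F R) hρinv he0 w)
  have hne : ρ ≠ ρ⁻¹ := fun h1 => rho_pow_ne_one (k := k) F
    (fun h2 : e ∣ 2 => by have := Nat.le_of_dvd two_pos h2; have := three_le_card h hodd; omega)
    (by rw [← hρ, pow_two]; nth_rw 2 [h1]; exact mul_inv_cancel₀ hρ0)
  have hJw0 : J w' ≠ 0 := fun h0 => hw'J (by rw [h0, dotProduct_zero])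
  have h2 : 2 ≤ Module.finrank k (LinearMap.range J) := by
    have hd : Submodule.span k {J v} ⊓ Submodule.span k {J w'} = ⊥ := by
      have hA : Submodule.span k {J v} ≤ eig Y ρ := (Submodule.span_singleton_le_iff_mem _ _).2 hJv
      have hB : Submodule.span k {J w'} ≤ eig Y ρ⁻¹ :=
        (Submodule.span_singleton_le_iff_mem _ _).2 hJw
      exact le_bot_iff.1 ((inf_le_inf hA hB).trans (le_of_eq (eig_inf hne)))
    have h1 := Submodule.finrank_sup_add_finrank_inf_eq (Submodule.span k {J v})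
      (Submodule.span k {J w'})
    rw [hd, finrank_bot, add_zero, finrank_span_singleton hv0, finrank_span_singleton hJw0] at h1
    rw [show 2 = 1 + 1 from rfl, ← h1]
    refine Submodule.finrank_mono (sup_le ?_ ?_) <;>
      exact (Submodule.span_singleton_le_iff_mem _ _).2 ⟨_, rfl⟩
  have h3 := finrank_range_opJ (opU_pow F R h)
  rw [Module.finrank_fin_fun, ← hJ] at h3
  have := hR.dim
  have := Nat.mul_le_mul_left p h2
  omega

end CfsgLib.Perm.UniqueDegreeP
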