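import Cfsg.Agent.Lib.Perm.UniqueDegreeP.Module
import Mathlib.RingTheory.SimpleModule.Basic
import Mathlib.LinearAlgebra.Eigenspace.Triangularizable
import Mathlib.LinearAlgebra.BilinearForm.Properties
import Mathlib.LinearAlgebra.Matrix.BilinearForm
import Mathlib.LinearAlgebra.Determinant
import Mathlib.LinearAlgebra.Matrix.Adjugate

/-!
# A representation of degree three with trace invariant under inversion

For a perfect simple group with an involution such a representation is faithful, irreducible, of
determinant one, and preserves a nondegenerate symmetric bilinear form.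
-/

set_option autoImplicit false

namespace CfsgLib.Perm.UniqueDegreeP

open scoped _root_.Classical

variable {G : Type*} [Group G] {k : Type*} [Field k] {V : Type*} [AddCommGroup V] [Module k V]
  [FiniteDimensional k V]

/-- A linear map commuting with an irreducible representation is a scalar; hence the operators of
the representation span all endomorphisms. -/
theorem span_range_eq_top_of_irreducible [IsAlgClosed k] (ρ : Representation k G V) [Nontrivial V]
    (hirr : ∀ W : Submodule k V, (∀ g, ∀ x ∈ W, ρ g x ∈ W) → W = ⊥ ∨ W = ⊤) :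
    Submodule.span k (Set.range ρ) = ⊤ := by
  set A := Algebra.adjoin k (Set.range ρ) with hA
  have hmem : ∀ g, ρ g ∈ A := fun g => Algebra.subset_adjoin ⟨g, rfl⟩
  have hsub : ∀ (U : Submodule A V) (c : k) (v : V), v ∈ U → c • v ∈ U := fun U c v hv => by
    have : (algebraMap k A c) • v ∈ U := U.smul_mem _ hv
    exact this
  have hsimple : IsSimpleModule A V := by
    rw [isSimpleModule_iff]
    have : Nontrivial (Submodule A V) := (Submodule.nontrivial_iff A).2 inferInstance
    refine ⟨fun U => ?_⟩
    let U' : Submodule k V :=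
      { U.toAddSubmonoid with smul_mem' := fun c v hv => hsub U c v hv }
    rcases hirr U' (fun g v hv => by
        have : (⟨_, hmem g⟩ : A) • v ∈ U := U.smul_mem _ hv
        exact this) with h | h
    · exact Or.inl (SetLike.ext fun v => by simpa [U'] using SetLike.ext_iff.1 h v)
    · exact Or.inr (SetLike.ext fun v => by simpa [U'] using SetLike.ext_iff.1 h v)
  have htop : ∀ T : Module.End k V, T ∈ A := by
    intro T
    have hscalar : ∀ g : Module.End A V, ∃ c : k, ∀ v, g v = c • v := by
      intro g
      let g' : Module.End k V :=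
        { toFun := g
          map_add' := map_add g
          map_smul' := fun c v => g.map_smul (algebraMap k A c) v }
      obtain ⟨c, hc⟩ := Module.End.exists_eigenvalue g'
      refine ⟨c, fun v => ?_⟩
      rcases hirr (Module.End.eigenspace g' c) (fun x w hw => by
          rw [Module.End.mem_eigenspace_iff] at hw ⊢
          show g ((⟨_, hmem x⟩ : A) • w) = c • ρ x w
          rw [g.map_smul, show g w = c • w from hw, ← map_smul]
          rfl) with h | h
      · exact absurd h hc
      · exact Module.End.mem_eigenspace_iff.1 (h ▸ Submodule.mem_top : v ∈ Module.End.eigenspace g' c)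
    let f : Module.End (Module.End A V) V :=
      { toFun := T
        map_add' := map_add T
        map_smul' := fun g v => by
          obtain ⟨c, hc⟩ := hscalar g
          simp [hc] }
    set b := Module.finBasis k V
    obtain ⟨a, ha⟩ := jacobson_density (R := A) f (Finset.univ.image fun i => b i)
    have : T = (a : Module.End k V) :=
      b.ext fun i => ha _ (Finset.mem_image_of_mem _ (Finset.mem_univ i))
    rw [this]
    exact a.2
  have hcl : Submonoid.closure (Set.range ρ) ≤ MonoidHom.mrange ρ :=
    Submonoid.closure_le.2 fun _ hx => hx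
  rw [eq_top_iff]
  intro M _
  have : M ∈ Subalgebra.toSubmodule A := htop M
  rw [hA, Algebra.adjoin_eq_span] at this
  exact Submodule.span_mono (fun _ hx => hcl hx) this

variable [Finite G] [IsSimpleGroup G] (hperf : commutator G = ⊤)
include hperf

omit [Finite G] [IsSimpleGroup G] in
theorem det_eq_one (ρ : Representation k G V) (g : G) : LinearMap.det (ρ g) = 1 := by
  let d : G →* kˣ := ((LinearMap.det (M := V) (A := k)).comp ρ).toHomUnits
  have h1 : commutator G ≤ d.ker := Abelianization.commutator_subset_ker d
  rw [hperf] at h1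
  exact congrArg Units.val (h1 (Subgroup.mem_top g))

omit [Finite G] in
theorem center_eq_bot : Subgroup.center G = ⊥ := by
  rcases IsSimpleGroup.eq_bot_or_eq_top_of_normal (Subgroup.center G) inferInstance with h | h
  · exact h
  · exfalso
    have h1 : commutator G = ⊥ := by
      rw [commutator_def, Subgroup.commutator_eq_bot_iff_le_centralizer]
      intro x _
      rw [Subgroup.mem_centralizer_iff]
      intro y _
      exact ((Subgroup.mem_center_iff.1 (h ▸ Subgroup.mem_top x)) y)
    rw [hperf] at h1
    exact top_ne_bot h1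

omit [Finite G] in
/-- Representations of degree at most two are trivial. -/
theorem eq_one_of_finrank_le_two {t : G} (ht : orderOf t = 2) (h2 : (2 : k) ≠ 0)
    {W : Type*} [AddCommGroup W] [Module k W] [FiniteDimensional k W] (ρ : Representation k G W)
    (hW : Module.finrank k W ≤ 2) (g : G) : ρ g = 1 := by
  rcases IsSimpleGroup.eq_bot_or_eq_top_of_normal (MonoidHom.ker ρ) inferInstance with hbot | htop
  swap
  · exact MonoidHom.mem_ker.1 (htop ▸ Subgroup.mem_top g)
  exfalso
  have hinj : Function.Injective ρ := (MonoidHom.ker_eq_bot_iff ρ).1 hbot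
  have ht1 : t ≠ 1 := fun h1 => by rw [h1, orderOf_one] at ht; omega
  set T := ρ t with hT
  have hTT : ∀ x, T (T x) = x := fun x => by
    rw [hT, ← Module.End.mul_apply, ← map_mul, ← pow_two, ← ht, pow_orderOf_eq_one, map_one,
      Module.End.one_apply]
  obtain ⟨w, hw⟩ : ∃ x, T x - x ≠ 0 := by
    by_contra hno
    push Not at hno
    exact ht1 (hinj (by
      rw [map_one]; exact LinearMap.ext fun x => sub_eq_zero.1 (hno x)))
  set w' := T w - w with hw'
  have hTw : T w' = -w' := by rw [hw', map_sub, hTT, neg_sub]
  obtain ⟨u, hu⟩ : ∃ x, T x + x ≠ 0 := by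
    by_contra hno
    push Not at hno
    refine ht1 (Subgroup.mem_bot.1 (center_eq_bot hperf ▸ Subgroup.mem_center_iff.2 fun x => ?_))
    refine hinj (LinearMap.ext fun y => ?_)
    rw [map_mul, map_mul, Module.End.mul_apply, Module.End.mul_apply, ← hT,
      eq_neg_of_add_eq_zero_left (hno (ρ x y)), eq_neg_of_add_eq_zero_left (hno y), map_neg]
  set u' := T u + u with hu'
  have hTu : T u' = u' := by rw [hu', map_add, hTT, add_comm]
  have hli : LinearIndependent k ![u', w'] := by
    rw [LinearIndependent.pair_iff]
    intro a b hab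
    have h1 := congrArg T hab
    rw [map_add, map_smul, map_smul, hTu, hTw, map_zero, smul_neg] at h1
    have h3 : (2 : k) • a • u' = 0 := by rw [two_smul]; linear_combination (norm := module) hab + h1
    have h4 : (2 : k) • b • w' = 0 := by rw [two_smul]; linear_combination (norm := module) hab - h1
    exact ⟨by simpa [h2, hu] using h3, by simpa [h2, hw] using h4⟩
  have hcard : Fintype.card (Fin 2) = Module.finrank k W := by
    have := hli.fintype_card_le_finrank
    rw [Fintype.card_fin] at this ⊢
    omega
  set b := basisOfLinearIndependentOfCardEqFinrank hli hcard with hb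
  have hmat : LinearMap.toMatrix b b T = !![1, 0; 0, -1] := by
    ext i j
    rw [LinearMap.toMatrix_apply]
    have hb0 : b 0 = u' := by simp [hb]
    have hb1 : b 1 = w' := by simp [hb]
    fin_cases j
    · show b.repr (T (b 0)) i = _
      rw [hb0, hTu, ← hb0, b.repr_self]
      fin_cases i <;> simp
    · show b.repr (T (b 1)) i = _
      rw [hb1, hTw, map_neg, ← hb1, b.repr_self]
      fin_cases i <;> simp
  have hdet := det_eq_one hperf ρ t
  rw [← LinearMap.det_toMatrix b, hmat, Matrix.det_fin_two_of] at hdet
  exact h2 (by linear_combination -hdet)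

omit [Finite G] in
/-- The representation is irreducible when some trace differs from three. -/
theorem irreducible_of_trace_ne {t : G} (ht : orderOf t = 2) (h2 : (2 : k) ≠ 0)
    (ρ : Representation k G V) (hdim : Module.finrank k V = 3) {y : G}
    (hy : LinearMap.trace k V (ρ y) ≠ 3) (W : Submodule k V) (hW : ∀ g, ∀ x ∈ W, ρ g x ∈ W) :
    W = ⊥ ∨ W = ⊤ := by
  by_contra hno
  push Not at hno
  have h0 : Module.finrank k W ≠ 0 := fun h0 => hno.1 (Submodule.finrank_eq_zero.1 h0)
  have h3 : Module.finrank k W < 3 := hdim ▸ Submodule.finrank_lt hno.2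
  have hq := W.finrank_quotient_add_finrank
  rw [hdim] at hq
  let ρW : Representation k G W :=
    { toFun := fun g => (ρ g).restrict (hW g)
      map_one' := LinearMap.ext fun x => Subtype.ext (by simp)
      map_mul' := fun a b => LinearMap.ext fun x => Subtype.ext (by simp) }
  let ρQ : Representation k G (V ⧸ W) :=
    { toFun := fun g => W.mapQ W (ρ g) (hW g)
      map_one' := Submodule.linearMap_qext _ (LinearMap.ext fun x => by simp)
      map_mul' := fun a b => Submodule.linearMap_qext _ (LinearMap.ext fun x => by simp) }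
  have hker : ∀ x ∈ LinearMap.ker W.mkQ, ρ y x ∈ LinearMap.ker W.mkQ := fun x hx => by
    rw [Submodule.ker_mkQ] at hx ⊢
    exact hW y x hx
  have h1 := trace_eq_ker_add (ρ y) (ρQ y) W.mkQ W.mkQ_surjective (LinearMap.ext fun x => rfl) hker
  have hid : (ρ y).restrict hker = LinearMap.id := LinearMap.ext fun x => Subtype.ext (by
    have hx : (x : V) ∈ W := W.ker_mkQ.le x.2
    have h4 := LinearMap.congr_fun (eq_one_of_finrank_le_two hperf ht h2 ρW (by omega) y)
      (⟨x, hx⟩ : W)
    have h5 : ρ y (x : V) = (x : V) := congrArg Subtype.val h4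
    exact h5)
  rw [hid, eq_one_of_finrank_le_two hperf ht h2 ρQ (by omega) y, Module.End.one_eq_id, trace_id_eq,
    trace_id_eq] at h1
  refine hy ?_
  rw [h1, show Module.finrank k (LinearMap.ker W.mkQ) = Module.finrank k W by rw [W.ker_mkQ],
    ← Nat.cast_add, show Module.finrank k W + Module.finrank k (V ⧸ W) = 3 by omega, Nat.cast_ofNat]

omit [Finite G] in
theorem injective_of_trace_ne (ρ : Representation k G V) (hdim : Module.finrank k V = 3) {y : G}
    (hy : LinearMap.trace k V (ρ y) ≠ 3) : Function.Injective ρ := by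
  rcases IsSimpleGroup.eq_bot_or_eq_top_of_normal (MonoidHom.ker ρ) inferInstance with h | h
  · exact (MonoidHom.ker_eq_bot_iff ρ).1 h
  · refine absurd ?_ hy
    rw [MonoidHom.mem_ker.1 (h ▸ Subgroup.mem_top y), Module.End.one_eq_id, trace_id_eq, hdim,
      Nat.cast_ofNat]

/-- An irreducible representation of odd degree with trace invariant under inversion is orthogonal. -/
theorem exists_form [IsAlgClosed k] (h2 : (2 : k) ≠ 0) (ρ : Representation k G V)
    (hdim : Module.finrank k V = 3)
    (hirr : ∀ W : Submodule k V, (∀ g, ∀ x ∈ W, ρ g x ∈ W) → W = ⊥ ∨ W = ⊤)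
    (hinv : ∀ g, LinearMap.trace k V (ρ g⁻¹) = LinearMap.trace k V (ρ g)) :
    ∃ B : LinearMap.BilinForm k V, (∀ x y, B x y = B y x) ∧
      (∀ g x y, B (ρ g x) (ρ g y) = B x y) ∧ ∀ x, (∀ y, B x y = 0) → x = 0 := by
  have : Fintype G := Fintype.ofFinite G
  have : Nontrivial V := Module.nontrivial_of_finrank_pos (R := k) (by omega)
  have hspan := span_range_eq_top_of_irreducible ρ hirr
  set L1 : (G → k) →ₗ[k] Module.End k V := Fintype.linearCombination k fun g => ρ g with hL1
  set L2 : (G → k) →ₗ[k] Module.End k V := Fintype.linearCombination k fun g => ρ g⁻¹ with hL2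
  have hL1s : LinearMap.range L1 = ⊤ := by rw [hL1, Fintype.range_linearCombination, hspan]
  have hker : LinearMap.ker L1 ≤ LinearMap.ker L2 := by
    intro c hc
    rw [LinearMap.mem_ker, hL1, Fintype.linearCombination_apply] at hc
    rw [LinearMap.mem_ker, hL2, Fintype.linearCombination_apply]
    set X := ∑ g, c g • ρ g⁻¹ with hX
    have h0 : ∀ Y : Module.End k V, LinearMap.trace k V (X * Y) = 0 := by
      intro Y
      have hY : Y ∈ Submodule.span k (Set.range ρ) := hspan ▸ Submodule.mem_top
      induction hY using Submodule.span_induction with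
      | zero => simp
      | add x y _ _ hx hy => rw [mul_add, map_add, hx, hy, add_zero]
      | smul a x _ hx => rw [mul_smul_comm, map_smul, hx, smul_zero]
      | mem Y hY =>
        obtain ⟨x, rfl⟩ := hY
        have h1 : ∀ g, LinearMap.trace k V (ρ g⁻¹ * ρ x) = LinearMap.trace k V (ρ x⁻¹ * ρ g) :=
          fun g => by rw [← map_mul, ← map_mul, ← hinv, mul_inv_rev, inv_inv]
        rw [hX, Finset.sum_mul, map_sum]
        simp only [smul_mul_assoc, map_smul, h1]
        simp only [← map_smul, ← mul_smul_comm]
        rw [← map_sum, ← Finset.mul_sum, hc, mul_zero, map_zero]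
    refine LinearMap.ext fun v => ?_
    rw [LinearMap.zero_apply]
    refine (Module.forall_dual_apply_eq_zero_iff k _).1 fun f => ?_
    have := h0 (f.smulRight v)
    rwa [Module.End.mul_eq_comp, show X ∘ₗ f.smulRight v = f.smulRight (X v) from
      LinearMap.ext fun x => by simp, LinearMap.trace_smulRight] at this
  set θ : Module.End k V →ₗ[k] Module.End k V :=
    (LinearMap.ker L1).liftQ L2 hker ∘ₗ
      (L1.quotKerEquivOfSurjective (LinearMap.range_eq_top.1 hL1s)).symm.toLinearMap with hθ
  have hθL : ∀ c, θ (L1 c) = L2 c := fun c => by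
    rw [hθ, LinearMap.comp_apply, LinearEquiv.coe_coe,
      show (L1.quotKerEquivOfSurjective (LinearMap.range_eq_top.1 hL1s)).symm (L1 c) =
        Submodule.Quotient.mk c from (LinearEquiv.symm_apply_eq _).2 rfl, Submodule.liftQ_apply]
  have hθρ : ∀ g, θ (ρ g) = ρ g⁻¹ := fun g => by
    have h1 := hθL (Pi.single g 1)
    rwa [hL1, hL2, Fintype.linearCombination_apply_single, Fintype.linearCombination_apply_single,
      one_smul, one_smul] at h1
  have hθmul : ∀ g X, θ (ρ g * X) = θ X * ρ g⁻¹ := by
    intro g X
    have hX : X ∈ Submodule.span k (Set.range ρ) := hspan ▸ Submodule.mem_top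
    induction hX using Submodule.span_induction with
    | zero => simp
    | add x y _ _ hx hy => rw [mul_add, map_add, hx, hy, map_add, add_mul]
    | smul a x _ hx => rw [mul_smul_comm, map_smul, hx, map_smul, smul_mul_assoc]
    | mem X hX =>
      obtain ⟨x, rfl⟩ := hX
      rw [← map_mul, hθρ, hθρ, ← map_mul, mul_inv_rev]
  have hθs : Function.Injective θ := by
    refine LinearMap.injective_iff_surjective.2 fun X => ?_
    have hX : X ∈ Submodule.span k (Set.range ρ) := hspan ▸ Submodule.mem_top
    induction hX using Submodule.span_induction with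
    | zero => exact ⟨0, map_zero _⟩
    | add x y _ _ hx hy =>
      obtain ⟨a, rfl⟩ := hx
      obtain ⟨b, rfl⟩ := hy
      exact ⟨a + b, map_add _ _ _⟩
    | smul a x _ hx =>
      obtain ⟨b, rfl⟩ := hx
      exact ⟨a • b, map_smul _ _ _⟩
    | mem X hX =>
      obtain ⟨x, rfl⟩ := hX
      exact ⟨ρ x⁻¹, by rw [hθρ, inv_inv]⟩
  obtain ⟨v0, hv0⟩ := exists_ne (0 : V)
  obtain ⟨f0', hf0'⟩ := not_forall.1 (mt (Module.forall_dual_apply_eq_zero_iff k v0).1 hv0)
  set f0 : V →ₗ[k] k := (f0' v0)⁻¹ • f0' with hf0
  have hfv : f0 v0 = 1 := by simp [hf0, hf0']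
  set X : V →ₗ[k] Module.End k V := LinearMap.smulRightₗ f0 with hX
  have hXap : ∀ x z, X x z = f0 z • x := fun x z => by simp [hX]
  have hXg : ∀ g x, X (ρ g x) = ρ g * X x := fun g x => LinearMap.ext fun z => by
    rw [Module.End.mul_apply, hXap, hXap, map_smul]
  set Bop : V →ₗ[k] V →ₗ[k] Module.End k V :=
    ((LinearMap.mul k (Module.End k V)).comp (θ ∘ₗ X)).compl₂ X with hBop
  have hBap : ∀ x y, Bop x y = θ (X x) * X y := fun x y => rfl
  have hBinv : ∀ g x y, Bop (ρ g x) (ρ g y) = Bop x y := fun g x y => by
    rw [hBap, hBap, hXg, hXg, hθmul, mul_assoc, ← mul_assoc (ρ g⁻¹), ← map_mul, inv_mul_cancel,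
      map_one, one_mul]
  have hBne : ∃ x y, Bop x y ≠ 0 := by
    have h1 : θ (X v0) ≠ 0 := fun h0 => hv0 (by
      have h2 : X v0 = 0 := hθs (h0.trans (map_zero θ).symm)
      have h3 := LinearMap.congr_fun h2 v0
      rwa [hXap, hfv, one_smul, LinearMap.zero_apply] at h3)
    obtain ⟨y, hy⟩ : ∃ y, θ (X v0) y ≠ 0 := by
      by_contra hno
      push Not at hno
      exact h1 (LinearMap.ext hno)
    refine ⟨v0, y, fun h0 => hy ?_⟩
    have h3 := LinearMap.congr_fun h0 v0
    rwa [hBap, Module.End.mul_apply, hXap, hfv, one_smul, LinearMap.zero_apply] at h3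
  obtain ⟨x₀, y₀, hne⟩ := hBne
  obtain ⟨ψ, hψ⟩ := not_forall.1 (mt (Module.forall_dual_apply_eq_zero_iff k _).1 hne)
  set B : LinearMap.BilinForm k V := Bop.compr₂ ψ with hB
  have hBi : ∀ g x y, B (ρ g x) (ρ g y) = B x y := fun g x y => congrArg ψ (hBinv g x y)
  have hnd : ∀ C : LinearMap.BilinForm k V, (∀ g x y, C (ρ g x) (ρ g y) = C x y) → C ≠ 0 →
      ∀ x, (∀ y, C x y = 0) → x = 0 := by
    intro C hC hC0 x hx
    rcases hirr (LinearMap.ker C) (fun g z hz => by
      rw [LinearMap.mem_ker] at hz ⊢
      refine LinearMap.ext fun w => ?_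
      have h1 := hC g z (ρ g⁻¹ w)
      rw [← Module.End.mul_apply (ρ g), ← map_mul, mul_inv_cancel, map_one, Module.End.one_apply, hz] at h1
      exact h1) with h | h
    · exact (Submodule.mem_bot k).1 (h ▸ LinearMap.mem_ker.2 (LinearMap.ext hx))
    · exact absurd (LinearMap.ker_eq_top.1 h) hC0
  refine ⟨B + B.flip, fun x y => by simp [add_comm], fun g x y => by simp [hBi], ?_⟩
  refine hnd _ (fun g x y => by simp [hBi]) fun h0 => ?_
  set b := Module.finBasisOfFinrankEq k V hdim
  have hB0 : B ≠ 0 := fun h1 => hψ (by
    have := LinearMap.congr_fun₂ h1 x₀ y₀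
    simpa [hB] using this)
  set M := LinearMap.BilinForm.toMatrix b B with hM
  have hMT : M.transpose = -M := by
    ext i j
    have := LinearMap.congr_fun₂ h0 (b i) (b j)
    simp only [LinearMap.add_apply, LinearMap.BilinForm.flip_apply, LinearMap.zero_apply] at this
    rw [Matrix.transpose_apply, Matrix.neg_apply, hM, LinearMap.BilinForm.toMatrix_apply,
      LinearMap.BilinForm.toMatrix_apply]
    linear_combination this
  have hdet : M.det = 0 := by
    have h1 := congrArg Matrix.det hMT
    rw [Matrix.det_transpose, Matrix.det_neg, Fintype.card_fin] at h1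
    have h3 : (2 : k) * M.det = 0 := by linear_combination h1
    exact (mul_eq_zero.1 h3).resolve_left h2
  obtain ⟨c, hc, hc0⟩ := Matrix.exists_vecMul_eq_zero_iff.2 hdet
  refine hc ?_
  have hz := hnd B hBi hB0 (∑ i, c i • b i) (fun y => by
    rw [← b.sum_repr y]
    simp only [map_sum, map_smul, LinearMap.sum_apply, LinearMap.smul_apply, smul_eq_mul]
    refine Finset.sum_eq_zero fun j _ => ?_
    have h4 := congrFun hc0 j
    rw [Matrix.vecMul, dotProduct] at h4
    simp only [hM, LinearMap.BilinForm.toMatrix_apply, Pi.zero_apply] at h4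
    rw [h4, mul_zero])
  exact funext fun i => Fintype.linearIndependent_iff.1 b.linearIndependent c hz i

end CfsgLib.Perm.UniqueDegreeP
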