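import Cfsg.Agent.Lib.Perm.UniqueDegreeP.Trace
import Cfsg.Agent.Lib.Perm.UniqueDegreeP.Three
import Cfsg.Agent.Lib.Perm.UniqueDegreeP.Poles
import Cfsg.Agent.Lib.Perm.UniqueDegreeP.Count
import Cfsg.Agent.S0675

/-!
# The case of a complement of odd order: the stabilizer of a point

The stabilizer acts on the isotropic lines fixed by its nontrivial elements; the count leaves
`(p, |H|, |E|) = (7, 24, 3)` and `(11, 60, 5)`.
-/

set_option autoImplicit false

namespace CfsgLib.Perm.UniqueDegreeP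

open MulAction
open CfsgLib.Perm.PrimeDegree (ι)
open scoped _root_.Classical

universe v

variable {α : Type*} [Fintype α] [DecidableEq α] {p : ℕ} [Fact p.Prime]
variable {G : Subgroup (Equiv.Perm α)} {P : Sylow p G} {E : Subgroup G}

theorem sub_dvd_card_stabilizer (h : Hyp G P E) (a : α) :
    p - 1 ∣ Nat.card (MulAction.stabilizer G a) := by
  have hp : p.Prime := Fact.out
  have := h.trans
  rcases Cfsg.Agent.S0675.result (by rw [h.card_eq]; exact hp) G with hs | h2
  · exact absurd hs (insoluble h)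
  obtain ⟨e₀⟩ : Nonempty (Fin 2 ↪ α) :=
    Function.Embedding.nonempty_of_card_le (by rw [Fintype.card_fin, h.card_eq]; exact hp.two_le)
  have h3 : IsPretransitive G (Fin 2 ↪ α) := h2
  have h4 := @index_stabilizer_of_transitive G (Fin 2 ↪ α) _ _ e₀ h3
  rw [Nat.card_eq_fintype_card, Fintype.card_embedding_eq, Fintype.card_fin, h.card_eq,
    show p.descFactorial 2 = p * (p - 1) by
      simp [Nat.descFactorial_succ, mul_comm]] at h4
  have h5 : p * (p - 1) ∣ Nat.card G := h4 ▸ Subgroup.index_dvd_card _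
  rw [← (MulAction.stabilizer G a).index_mul_card, index_stabilizer_of_transitive,
    Nat.card_eq_fintype_card (α := α), h.card_eq] at h5
  exact Nat.dvd_of_mul_dvd_mul_left hp.pos h5

theorem card_eq_mul_stabilizer (h : Hyp G P E) (a : α) :
    Nat.card G = p * Nat.card (MulAction.stabilizer G a) := by
  have := h.trans
  rw [← (MulAction.stabilizer G a).index_mul_card, index_stabilizer_of_transitive,
    Nat.card_eq_fintype_card, h.card_eq]

theorem card_stabilizer_eq (h : Hyp G P E) (a : α) :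
    Nat.card (MulAction.stabilizer G a) = Nat.card (Sylow p G) * Nat.card E := by
  have h1 := (Subgroup.normalizer ((P : Subgroup G) : Set G)).card_mul_index
  rw [card_normalizer h, card_eq_mul_stabilizer h a, mul_assoc] at h1
  rw [P.card_eq_index_normalizer, mul_comm]
  exact (Nat.eq_of_mul_eq_mul_left (Fact.out : p.Prime).pos h1).symm

/-- The possible orders. -/
theorem card_cases (h : Hyp G P E) (hodd : Odd (Nat.card E)) :
    (p = 7 ∧ Nat.card G = 168 ∧ Nat.card (Sylow p G) = 8) ∨
      (p = 11 ∧ Nat.card G = 660 ∧ Nat.card (Sylow p G) = 12) := by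
  have hp : p.Prime := Fact.out
  have hp5 := five_le h
  have he3 := three_le_card h hodd
  obtain ⟨F⟩ := exists_frame h
  have := isSimpleGroup h
  have hperf := perfect h
  -- the representation of degree three
  obtain ⟨k, _, _, _, m, R, hm, hinv, hpow⟩ := exists_rep_succ h hodd F
  obtain ⟨R', v, hR', hv, hvZ, hvU⟩ := exists_seed h hodd F (R := R) ⟨hm, hinv, hpow⟩
  obtain ⟨V, _, _, _, ρ, hdim, htrinv, htry⟩ := exists_three F h hodd hR' hv hvZ hvU
  have h2 : (2 : k) ≠ 0 := by
    intro h0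
    have := (CharP.cast_eq_zero_iff k p 2).1 (by simpa using h0)
    have := Nat.le_of_dvd two_pos this
    omega
  have hne1 : ¬ Nat.card E ∣ 1 := fun h1 => by have := Nat.le_of_dvd one_pos h1; omega
  have hρ1 : ι k F.r ≠ 1 := by simpa using rho_pow_ne_one (k := k) F hne1
  have hρ0 : ι k F.r ≠ 0 := by simpa using F.r_ne_zero
  have htr3 : LinearMap.trace k V (ρ F.y) ≠ 3 := by
    rw [htry]
    intro h0
    refine hρ1 (sub_eq_zero.1 (mul_self_eq_zero.1 ?_))
    field_simp at h0
    linear_combination h0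
  obtain ⟨t, ht⟩ : ∃ t : G, orderOf t = 2 := exists_prime_orderOf_dvd_card' 2
    ((dvd_mul_right 2 _).trans (h.card_norm ▸ Subgroup.card_subgroup_dvd_card _))
  have hirr := irreducible_of_trace_ne hperf ht h2 ρ hdim htr3
  have hinj := injective_of_trace_ne hperf ρ hdim htr3
  obtain ⟨B, hsymm, hBinv, hnd⟩ := exists_form hperf h2 ρ hdim hirr htrinv
  -- the stabilizer
  set H := MulAction.stabilizer G (F.e 0) with hH
  have hpH : ¬ p ∣ Nat.card H := fun hd => not_sq_dvd h (by
    rw [card_eq_mul_stabilizer h (F.e 0), pow_two]; exact Nat.mul_dvd_mul_left p hd)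
  have hlines : ∀ g : H, g ≠ 1 → ∃ u w : V, u ≠ 0 ∧ w ≠ 0 ∧
      Submodule.span k {u} ≠ Submodule.span k {w} ∧ B u u = 0 ∧ B w w = 0 ∧
      ρ g u ∈ Submodule.span k {u} ∧ ρ g w ∈ Submodule.span k {w} ∧
      ∀ x : V, x ≠ 0 → B x x = 0 → ρ g x ∈ Submodule.span k {x} →
        (x ∈ Submodule.span k {u} ∨ x ∈ Submodule.span k {w}) ∧ ρ g x ≠ x := by
    intro g hg
    refine exists_two_lines h2 hdim B hsymm hnd (ρ g) (hBinv g) (det_eq_one hperf ρ g)
      (n := orderOf g) (orderOf_pos g) ?_ ?_ ?_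
    · rw [Ne, CharP.cast_eq_zero_iff k p]
      exact fun hd => hpH (hd.trans (orderOf_dvd_natCard g))
    · rw [← map_pow, ← SubmonoidClass.coe_pow, pow_orderOf_eq_one, OneMemClass.coe_one, map_one]
    · exact fun h1 => hg (Subtype.ext (hinj (h1.trans (map_one ρ).symm)))
  choose! lu lw hu0 hw0 hne huu hww hu hw hcls using hlines
  have hspan_map : ∀ (g : G) (x : V),
      (Submodule.span k {x}).map (ρ g) = Submodule.span k {ρ g x} := fun g x => by
    rw [Submodule.map_span, Set.image_singleton]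
  let Ω := {L : Submodule k V // ∃ g : H, g ≠ 1 ∧ ∃ x : V, x ≠ 0 ∧ B x x = 0 ∧
    ρ g x ∈ Submodule.span k {x} ∧ L = Submodule.span k {x}}
  have hcase : ∀ (g : H), g ≠ 1 → ∀ x : V, x ≠ 0 → B x x = 0 → ρ g x ∈ Submodule.span k {x} →
      Submodule.span k {x} = Submodule.span k {lu g} ∨ Submodule.span k {x} = Submodule.span k {lw g} := by
    intro g hg x hx hxx hgx
    rcases (hcls g hg x hx hxx hgx).1 with h1 | h1
    · exact Or.inl (Submodule.span_singleton_eq_span_singleton.2 (by
        obtain ⟨c, hc⟩ := Submodule.mem_span_singleton.1 h1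
        have hc0 : c ≠ 0 := fun h0 => hx (by rw [← hc, h0, zero_smul])
        exact ⟨(Units.mk0 c hc0)⁻¹, by rw [← hc, Units.smul_def, smul_smul]; simp [hc0]⟩))
    · exact Or.inr (Submodule.span_singleton_eq_span_singleton.2 (by
        obtain ⟨c, hc⟩ := Submodule.mem_span_singleton.1 h1
        have hc0 : c ≠ 0 := fun h0 => hx (by rw [← hc, h0, zero_smul])
        exact ⟨(Units.mk0 c hc0)⁻¹, by rw [← hc, Units.smul_def, smul_smul]; simp [hc0]⟩))
  have : Finite Ω := by
    refine Set.Finite.to_subtype (s := {L : Submodule k V | ∃ g : H, g ≠ 1 ∧ ∃ x : V, x ≠ 0 ∧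
      B x x = 0 ∧ ρ g x ∈ Submodule.span k {x} ∧ L = Submodule.span k {x}}) ?_
    refine Set.Finite.subset ((Set.finite_range fun g : H => Submodule.span k {lu g}).union
      (Set.finite_range fun g : H => Submodule.span k {lw g})) ?_
    rintro L ⟨g, hg, x, hx, hxx, hgx, rfl⟩
    rcases hcase g hg x hx hxx hgx with h1 | h1
    · exact Or.inl ⟨g, h1.symm⟩
    · exact Or.inr ⟨g, h1.symm⟩
  have hclosed : ∀ (a : H) (L : Ω), ∃ g : H, g ≠ 1 ∧ ∃ x : V, x ≠ 0 ∧ B x x = 0 ∧
      ρ g x ∈ Submodule.span k {x} ∧ L.1.map (ρ a) = Submodule.span k {x} := by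
    rintro a ⟨L, g, hg, x, hx, hxx, hgx, rfl⟩
    refine ⟨a * g * a⁻¹, fun h1 => hg (conj_eq_one_iff.1 h1), ρ a x, fun h0 => hx ?_, ?_, ?_,
      hspan_map a x⟩
    · have h1 := congrArg (ρ ((a : G))⁻¹) h0
      rwa [← Module.End.mul_apply, ← map_mul, inv_mul_cancel, map_one, Module.End.one_apply,
        map_zero] at h1
    · rw [hBinv]; exact hxx
    · obtain ⟨c, hc⟩ := Submodule.mem_span_singleton.1 hgx
      refine Submodule.mem_span_singleton.2 ⟨c, ?_⟩
      rw [← map_smul, hc, ← Module.End.mul_apply, ← Module.End.mul_apply, ← map_mul, ← map_mul]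
      congr 2
      simp [mul_assoc]
  let act : MulAction H Ω :=
    { smul := fun a L => ⟨L.1.map (ρ (a : G)), hclosed a L⟩
      one_smul := fun L => Subtype.ext (by
        show L.1.map (ρ ((1 : H) : G)) = L.1
        rw [OneMemClass.coe_one, map_one]
        exact Submodule.map_id L.1)
      mul_smul := fun a b L => Subtype.ext (by
        show L.1.map (ρ ((a * b : H) : G)) = (L.1.map (ρ (b : G))).map (ρ (a : G))
        rw [Subgroup.coe_mul, map_mul]
        exact Submodule.map_comp _ _ _) }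
  have hfixiff : ∀ (g : H) (L : Ω) (x : V), L.1 = Submodule.span k {x} → g • L = L →
      ρ g x ∈ Submodule.span k {x} := fun g L x hL hfix => by
    have h1 : L.1.map (ρ (g : G)) = L.1 := congrArg Subtype.val hfix
    rw [hL, hspan_map] at h1
    exact h1 ▸ Submodule.mem_span_singleton_self _
  have hfixof : ∀ (g : H) (x : V), x ≠ 0 → ρ g x ∈ Submodule.span k {x} →
      (Submodule.span k {x}).map (ρ (g : G)) = Submodule.span k {x} := fun g x hx hgx => by
    refine Submodule.eq_of_le_of_finrank_le ?_ ?_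
    · rw [hspan_map, Submodule.span_singleton_le_iff_mem]; exact hgx
    · rw [hspan_map, finrank_span_singleton hx, finrank_span_singleton fun h0 => hx ?_]
      have h1 := congrArg (ρ ((g : G))⁻¹) h0
      rwa [← Module.End.mul_apply, ← map_mul, inv_mul_cancel, map_one, Module.End.one_apply,
        map_zero] at h1
  have hfix2 : ∀ g : H, g ≠ 1 → Nat.card (fixedBy Ω g) = 2 := by
    intro g hg
    set Lu : Ω := ⟨Submodule.span k {lu g}, g, hg, lu g, hu0 g hg, huu g hg, hu g hg, rfl⟩
    set Lw : Ω := ⟨Submodule.span k {lw g}, g, hg, lw g, hw0 g hg, hww g hg, hw g hg, rfl⟩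
    have hset : fixedBy Ω g = {Lu, Lw} := by
      ext L
      rw [mem_fixedBy, Set.mem_insert_iff, Set.mem_singleton_iff]
      constructor
      · intro hL
        obtain ⟨g', hg', x, hx, hxx, -, hLx⟩ := L.2
        rcases hcase g hg x hx hxx (hfixiff g L x hLx hL) with h1 | h1
        · exact Or.inl (Subtype.ext (hLx.trans h1))
        · exact Or.inr (Subtype.ext (hLx.trans h1))
      · rintro (rfl | rfl)
        · exact Subtype.ext (hfixof g _ (hu0 g hg) (hu g hg))
        · exact Subtype.ext (hfixof g _ (hw0 g hg) (hw g hg))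
    rw [hset, Nat.card_coe_set_eq]
    exact Set.ncard_pair fun h1 => hne g hg (congrArg Subtype.val h1)
  have hstab : ∀ L : Ω, MulAction.stabilizer H L ≠ ⊥ := by
    rintro ⟨L, g, hg, x, hx, hxx, hgx, rfl⟩ h0
    exact hg (Subgroup.mem_bot.1 (h0 ▸ MulAction.mem_stabilizer_iff.2
      (Subtype.ext (hfixof g x hx hgx))))
  -- the line of `y`
  have hyH : F.y ∈ H := MulAction.mem_stabilizer_iff.2 (by rw [F.smul_y, mul_zero])
  have hy1 : F.y ≠ 1 := fun h0 => hne1 (by rw [← F.orderOf_y, h0, orderOf_one])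
  set yH : H := ⟨F.y, hyH⟩ with hyHdef
  have hyH1 : yH ≠ 1 := fun h0 => hy1 (congrArg Subtype.val h0)
  set x₀ : Ω := ⟨Submodule.span k {lu yH}, yH, hyH1, lu yH, hu0 _ hyH1, huu _ hyH1, hu _ hyH1, rfl⟩
  set S := MulAction.stabilizer H x₀ with hS
  have hmem : ∀ g ∈ S, ρ (g : G) (lu yH) ∈ Submodule.span k {lu yH} := fun g hg =>
    hfixiff g x₀ _ rfl (MulAction.mem_stabilizer_iff.1 hg)
  have hscal : ∀ g : S, ∃ c : k, c • lu yH = ρ ((g : H) : G) (lu yH) := fun g =>
    Submodule.mem_span_singleton.1 (hmem g g.2)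
  choose χ hχ using hscal
  have hone_inj : ∀ {a b : k}, a • lu yH = b • lu yH → a = b := fun {a b} h1 => by
    rw [← sub_eq_zero, ← sub_smul] at h1
    exact sub_eq_zero.1 ((smul_eq_zero.1 h1).resolve_right (hu0 _ hyH1))
  let χhom : S →* k :=
    { toFun := χ
      map_one' := hone_inj (by rw [hχ, one_smul]; simp)
      map_mul' := fun a b => hone_inj (by
        rw [hχ, Subgroup.coe_mul, Subgroup.coe_mul, map_mul, Module.End.mul_apply, ← hχ b,
          map_smul, ← hχ a, smul_smul, mul_comm]) }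
  have hχinj : Function.Injective χhom := by
    intro a b hab
    by_contra hne'
    set c : S := a * b⁻¹ with hc
    have hc1 : (c : H) ≠ 1 := fun h1 => hne' (mul_inv_eq_one.1 (Subtype.ext h1))
    have hcχ : χhom c = 1 := by
      rw [hc, map_mul, hab, ← map_mul, mul_inv_cancel, map_one]
    refine (hcls _ hc1 (lu yH) (hu0 _ hyH1) (huu _ hyH1) (hmem _ c.2)).2 ?_
    rw [← hχ c, show χ c = 1 from hcχ, one_smul]
  have hycomm : ∀ g ∈ S, g ∈ E.subgroupOf H := by
    intro g hg
    rw [Subgroup.mem_subgroupOf, ← centralizer_eq h hodd (F.zpowers_y.le (Subgroup.mem_zpowers F.y))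
      hy1, Subgroup.mem_centralizer_singleton_iff]
    have hyS : yH ∈ S := MulAction.mem_stabilizer_iff.2
      (Subtype.ext (hfixof yH _ (hu0 _ hyH1) (hu _ hyH1)))
    have h1 : (⟨g, hg⟩ : S) * ⟨yH, hyS⟩ = ⟨yH, hyS⟩ * ⟨g, hg⟩ :=
      hχinj (by rw [map_mul, map_mul, mul_comm])
    exact congrArg (fun z : S => ((z : H) : G)) h1
  have hEH : E ≤ H := fun z hz => by
    rw [← F.zpowers_y] at hz
    exact (Subgroup.zpowers_le.2 hyH) hz
  have hSE : S = E.subgroupOf H := by
    refine le_antisymm hycomm fun g hg => ?_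
    rw [Subgroup.mem_subgroupOf, ← F.zpowers_y] at hg
    obtain ⟨i, hi⟩ := hg
    have hi' : g = yH ^ i := Subtype.ext (by rw [SubgroupClass.coe_zpow]; exact hi.symm)
    rw [hi']
    exact zpow_mem (MulAction.mem_stabilizer_iff.2
      (Subtype.ext (hfixof yH _ (hu0 _ hyH1) (hu _ hyH1)))) i
  have hScard : Nat.card S = Nat.card E := by
    rw [hSE, Nat.card_congr (Subgroup.subgroupOfEquivOfLe hEH).toEquiv]
  -- the arithmetic
  have hn := card_sylow_modEq_one p G
  have hh := card_stabilizer_eq h (F.e 0)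
  have hd := sub_dvd_card_stabilizer h (F.e 0)
  have hle := two_mul_card_le h
  have hG := card_eq_mul_stabilizer h (F.e 0)
  rw [← hH] at hh hd hG
  set n := Nat.card (Sylow p G)
  have hmod : ∀ c, n = c → 1 ≤ c → p ∣ c - 1 := fun c hc hc1 =>
    (Nat.modEq_iff_dvd' hc1).1 (hc ▸ hn).symm
  rcases pole_count hfix2 hstab x₀ hScard hodd he3 with h1 | h1 | ⟨h1, h1'⟩ | ⟨h1, h1'⟩ | ⟨h1, h1'⟩
  · rw [h1] at hd
    have := Nat.le_of_dvd (by omega) hd
    omega
  · rw [h1] at hh
    have h2' : n = 2 := (Nat.eq_of_mul_eq_mul_right Nat.card_pos hh).symm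
    have := Nat.le_of_dvd one_pos (hmod 2 h2' (by omega))
    omega
  · rw [h1, h1'] at hh
    have := Nat.le_of_dvd (by omega) (hmod 4 (by omega) (by omega))
    omega
  · rw [h1, h1'] at hh
    have h7 : p = 7 := (Nat.prime_dvd_prime_iff_eq hp (by norm_num)).1 (hmod 8 (by omega) (by omega))
    refine Or.inl ⟨h7, ?_, by omega⟩
    rw [hG, h1, h7]
  · rw [h1] at hh hd
    rcases h1' with h1' | h1' <;> rw [h1'] at hh
    · have h19 : p = 19 := (Nat.prime_dvd_prime_iff_eq hp (by norm_num)).1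
        (hmod 20 (by omega) (by omega))
      rw [h19] at hd
      norm_num at hd
    · have h11 : p = 11 := (Nat.prime_dvd_prime_iff_eq hp (by norm_num)).1
        (hmod 12 (by omega) (by omega))
      refine Or.inr ⟨h11, ?_, by omega⟩
      rw [hG, h1, h11]

end CfsgLib.Perm.UniqueDegreeP
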