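import Cfsg.Agent.Lib.Perm.UniqueDegreeP.OddChar
import Cfsg.Agent.Lib.Blocks.Brauer.Data
import Cfsg.Agent.Lib.ZStar.PrincipalBlock
import Cfsg.Agent.Lib.Perm.PrimeDegree

/-!
# The case of a complement of odd order: a representation of degree `p + 1` in characteristic `p`

Reduction of the character of degree `p + 1`: a matrix representation over an algebraically closed
field of characteristic `p` whose trace is invariant under inversion and takes the values
`r ^ i + r ^ -i` on `y ^ i`.
-/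

set_option autoImplicit false

namespace CfsgLib.Perm.UniqueDegreeP

open Cfsg MonoidAlgebra CfsgLib.Blocks CfsgLib.Pairs CfsgLib.Star CfsgLib.IBr CfsgLib.CharDegree
open CfsgLib.Perm.PrimeDegree (ι)
open scoped _root_.Classical

variable {α : Type*} [Fintype α] [DecidableEq α] {p : ℕ} [Fact p.Prime]
variable {G : Subgroup (Equiv.Perm α)} {P : Sylow p G} {E : Subgroup G}

section Brauer

variable {H : Type*} [Group H] [Fintype H] {M : Ideal AlgInt} [M.IsPrime]

/-- The sum of the traces weighted by the decomposition numbers of `χ` is the reduction of `χ` at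
the regular part. -/
theorem exists_sum_tau (hM : IsPModular p M) [CharP (Res M) p] (D : IBr.Data H M)
    (χ : IrrCharacter H) {s : H} (hs : ¬ p ∣ orderOf s) :
    ∃ a : localRing M, (a : ℂ) = (χ : H → ℂ) s ∧
      resHom M a = ∑ δ, (D.dec χ δ : Res M) * D.tau δ (single s 1) := by
  refine ⟨∑ δ, (D.dec χ δ : localRing M) * D.phiO δ s, ?_, ?_⟩
  · have h1 := congrFun (D.pRegularPart_eq_sum hM χ) s
    simp only [pRegularPart, IsPRegular, hs, not_false_iff, if_true, Finset.sum_apply, Pi.smul_apply,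
      smul_eq_mul] at h1
    rw [h1, AddSubmonoidClass.coe_finsetSum]
    refine Finset.sum_congr rfl fun δ _ => ?_
    push_cast
    rw [D.phiO_coe (p := p) δ hs]
  · rw [map_sum]
    refine Finset.sum_congr rfl fun δ _ => ?_
    rw [map_mul, map_natCast, D.phiO_res hM δ hs]

theorem sum_tau_inv (hM : IsPModular p M) [CharP (Res M) p] (D : IBr.Data H M)
    (χ : IrrCharacter H) (hreal : ∀ g, (χ : H → ℂ) g⁻¹ = (χ : H → ℂ) g) (g : H) :
    ∑ δ, (D.dec χ δ : Res M) * D.tau δ (single g⁻¹ 1) =
      ∑ δ, (D.dec χ δ : Res M) * D.tau δ (single g 1) := by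
  obtain ⟨u, s, hu, hs, hcm, rfl⟩ := exists_decomp (p := p) g
  rw [mul_inv_rev, ← (hcm.inv_inv).eq]
  simp only [D.tau_single_mul _ hu hcm,
    D.tau_single_mul _ (u := u⁻¹) (by simpa using hu) hcm.inv_inv]
  obtain ⟨a, ha, ha'⟩ := exists_sum_tau hM D χ hs
  obtain ⟨b, hb, hb'⟩ := exists_sum_tau hM D χ (s := s⁻¹) (by simpa using hs)
  rw [← ha', ← hb', show b = a from Subtype.ext (by rw [ha, hb, hreal])]

end Brauer

/-- The representation of degree `p + 1`. -/
theorem exists_rep_succ (h : Hyp G P E) (hodd : Odd (Nat.card E)) (F : Frame G P E) :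
    ∃ (k : Type) (_ : Field k) (_ : IsAlgClosed k) (_ : CharP k p) (m : ℕ)
      (R : G →* Matrix (Fin m) (Fin m) k), m = p + 1 ∧
      (∀ g, (R g⁻¹).trace = (R g).trace) ∧
      ∀ i : ℕ, ¬ Nat.card E ∣ i →
        (R (F.y ^ i)).trace = ι k F.r ^ i + ι k F.r ^ (i * (Nat.card E - 1)) := by
  have hp : p.Prime := Fact.out
  have : Fintype G := Fintype.ofFinite G
  have : Fintype E := Fintype.ofFinite E
  obtain ⟨M, hM⟩ := CfsgLib.ZStar.exists_isPModular hp
  have := hM.2.1.isPrime
  have : CharP (Res M) p := charP_residueField hM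
  have hac := isAlgClosed_res (M := M)
  set e := Nat.card E with he
  have he0 : 0 < e := Nat.card_pos
  set ρ : Res M := ι (Res M) F.r with hρ
  have hρe : ρ ^ e = 1 := by
    rw [hρ, ← map_pow, he, ← F.orderOf_r, pow_orderOf_eq_one, map_one]
  have hρ1 : ρ ≠ 1 := fun h1 => F.r_ne_one h ((ι (p := p) (Res M)).injective (h1.trans (map_one _).symm))
  -- a root of unity in the local ring over `ρ`
  obtain ⟨c, hce, hcρ⟩ : ∃ c : localRing M, c ^ e = 1 ∧ resHom M c = ρ := by
    have hprod := congrArg (Polynomial.eval₂ (resHom M) ρ)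
      (Polynomial.X_pow_sub_one_eq_prod he0 (isPrimitiveRoot_rootO M he0.ne'))
    rw [Polynomial.eval₂_sub, Polynomial.eval₂_pow, Polynomial.eval₂_X, Polynomial.eval₂_one, hρe,
      sub_self, Polynomial.eval₂_finsetProd] at hprod
    obtain ⟨c, hc, hc0⟩ := Finset.prod_eq_zero_iff.1 hprod.symm
    rw [Polynomial.eval₂_sub, Polynomial.eval₂_X, Polynomial.eval₂_C, sub_eq_zero] at hc0
    exact ⟨c, (Polynomial.mem_nthRootsFinset he0 1).1 hc, hc0.symm⟩
  set ζ : ℂˣ := Units.ofPowEqOne (c : ℂ) e (by rw [← SubmonoidClass.coe_pow, hce]; rfl) he0.ne'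
    with hζ
  obtain ⟨θ, hθ⟩ := exists_irr_apply_eq F ζ (Units.pow_ofPowEqOne _ _)
  have hζc : (ζ : ℂ) = c := by rw [hζ]; rfl
  have hθne : θ ≠ CfsgLib.Char.trivChar E := fun h1 => by
    have h2 := hθ 1
    rw [h1, CfsgLib.Char.trivChar_apply, pow_one, hζc] at h2
    exact hρ1 (by rw [← hcρ, show c = 1 from Subtype.ext h2.symm, map_one])
  obtain ⟨X, hX1, hXreal, hXE⟩ := exists_char h hodd hθne
  obtain ⟨D⟩ := IBr.nonempty_data (G := G) (M := M)
  let κ := Σ s : (Σ δ : Fin D.n, Fin (D.dec X δ)), Fin (D.d s.1)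
  let W : G →* Matrix κ κ (Res M) :=
    { toFun := fun g => Matrix.blockDiagonal' fun s => D.ψ (single g 1) s.1
      map_one' := by
        simp only [← MonoidAlgebra.one_def, map_one, Pi.one_apply]
        exact Matrix.blockDiagonal'_one
      map_mul' := fun a b => by
        rw [← Matrix.blockDiagonal'_mul]
        congr 1
        funext s
        rw [← Pi.mul_apply, ← map_mul, single_mul_single, one_mul] }
  have htr : ∀ g, (W g).trace = ∑ δ, (D.dec X δ : Res M) * D.tau δ (single g 1) := fun g => by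
    show (Matrix.blockDiagonal' fun s : (Σ δ : Fin D.n, Fin (D.dec X δ)) => D.ψ (single g 1) s.1).trace = _
    rw [Matrix.trace_blockDiagonal', Fintype.sum_sigma]
    refine Finset.sum_congr rfl fun δ _ => ?_
    show ∑ _y : Fin (D.dec X δ), D.tau δ (single g 1) = _
    rw [Finset.sum_const, Finset.card_univ, Fintype.card_fin, nsmul_eq_mul]
  have hcard : Fintype.card κ = p + 1 := by
    have h1 := congrFun (D.pRegularPart_eq_sum hM X) 1
    simp only [pRegularPart, IsPRegular, orderOf_one, Nat.dvd_one, hp.ne_one, not_false_iff, if_true,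
      Finset.sum_apply, Pi.smul_apply, smul_eq_mul, D.phi_one hM, hX1] at h1
    simp only [κ, Fintype.card_sigma, Fintype.sum_sigma, Fintype.card_fin, Finset.sum_const,
      Finset.card_univ, smul_eq_mul]
    exact_mod_cast h1.symm
  let eκ : κ ≃ Fin (p + 1) := Fintype.equivFinOfCardEq hcard
  let R : G →* Matrix (Fin (p + 1)) (Fin (p + 1)) (Res M) :=
    (Matrix.reindexAlgEquiv (Res M) (Res M) eκ).toAlgHom.toRingHom.toMonoidHom.comp W
  have htR : ∀ g, (R g).trace = (W g).trace := fun g => by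
    show (Matrix.reindex eκ eκ (W g)).trace = _
    simp only [Matrix.trace, Matrix.diag_apply, Matrix.reindex_apply, Matrix.submatrix_apply]
    exact Equiv.sum_comp eκ.symm fun i => W g i i
  refine ⟨Res M, inferInstance, hac, inferInstance, p + 1, R, rfl, fun g => ?_, fun i hi => ?_⟩
  · rw [htR, htR, htr, htr, sum_tau_inv hM D X hXreal]
  have hord : ¬ p ∣ orderOf (F.y ^ i) := fun h1 => by
    have h2 : orderOf (F.y ^ i) ∣ e := by
      rw [he, ← F.orderOf_y]
      exact orderOf_dvd_of_pow_eq_one (by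
        rw [← pow_mul, mul_comm, pow_mul, pow_orderOf_eq_one, one_pow])
    have := Nat.le_of_dvd (by have := hp.two_le; omega) ((h1.trans h2).trans (card_dvd_pred h))
    have := hp.two_le
    omega
  obtain ⟨a, ha, ha'⟩ := exists_sum_tau hM D X hord
  rw [htR, htr, ← ha', show a = c ^ i + c ^ (i * (e - 1)) from ?_, map_add, map_pow, map_pow, hcρ]
  apply Subtype.ext
  rw [ha, AddMemClass.coe_add, SubmonoidClass.coe_pow, SubmonoidClass.coe_pow]
  set yE : E := ⟨F.y, F.zpowers_y.le (Subgroup.mem_zpowers F.y)⟩ with hyE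
  have hyi : yE ^ i ≠ 1 := fun h1 => hi (by
    rw [he, ← F.orderOf_y]
    exact orderOf_dvd_of_pow_eq_one (congrArg Subtype.val h1))
  have hinv : (yE ^ i)⁻¹ = yE ^ (i * (e - 1)) := by
    rw [inv_eq_iff_mul_eq_one, ← pow_add, show i + i * (e - 1) = i * e by
      obtain ⟨e', he'⟩ := Nat.exists_eq_succ_of_ne_zero he0.ne'
      rw [he', Nat.succ_sub_one, Nat.mul_succ, add_comm],
      mul_comm, pow_mul, he, pow_card_eq_one', one_pow]
  have hcoe : F.y ^ i = ((yE ^ i : E) : G) := by rw [hyE]; rfl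
  rw [hcoe, hXE (yE ^ i) hyi, hinv, hθ, hθ, hζc]

end CfsgLib.Perm.UniqueDegreeP
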